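import Groth.Agent.Lib.AffThick.Affine
import Groth.Agent.Lib.AlgSpDecent.Glue
import Groth.Agent.Lib.AlgSpDecent.OpenScheme

/-!
# A thickening of a scheme is a scheme
-/

set_option autoImplicit false
set_option linter.style.haveILetI false

universe u

open CategoryTheory CategoryTheory.Limits AlgebraicGeometry
open AlgSp Groth.Agent.Lib.AlgSpace

namespace Groth.Agent.Lib.AffThick

variable {S : Scheme.{u}}

theorem exists_scheme {X X' : Sp S} (hX' : IsAlgSpace X') {i : X ⟶ X'} (hi : IsThickMor i)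
    {T : Over S} (e : (yon S).obj T ≅ X) :
    ∃ T' : Over S, Nonempty ((yon S).obj T' ≅ X') := by
  have hh := AlgSpFormal.ThickTopo.isHomeomorph_map hi
  have hcov : ∀ t : ↥T.left, ∃ (V : T.left.Opens) (O : S.Opens), t ∈ V ∧ IsAffineOpen V ∧
      IsAffineOpen O ∧ ∀ v ∈ V, T.hom v ∈ O := by
    intro t
    obtain ⟨O, hO, hx, -⟩ := exists_isAffineOpen_mem_and_subset (U := ⊤) (Set.mem_univ (T.hom t))
    obtain ⟨V, hV, htV, hVO⟩ :=
      exists_isAffineOpen_mem_and_subset (U := T.hom ⁻¹ᵁ O) (show t ∈ T.hom ⁻¹ᵁ O from hx)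
    exact ⟨V, O, htV, hV, hO, fun v hv => hVO hv⟩
  choose V O htV hV hO hVO using hcov
  -- the open subspaces
  have hpiece : ∀ t, ∃ (Q : Over S) (l : (yon S).obj Q ⟶ X'), RepWith @IsOpenImmersion l ∧
      Points.map i (Points.map e.hom (Points.ofScheme T t)) ∈ Set.range (Points.map l) := by
    intro t
    let Vo : Over S := Over.mk ((V t).ι ≫ T.hom)
    let w : Vo ⟶ T := Over.homMk (V t).ι rfl
    let u : (yon S).obj Vo ⟶ X := (yon S).map w ≫ e.hom
    have hu : RepWith @IsOpenImmersion u :=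
      (repWith_comp_iso_iff @IsOpenImmersion _ e.hom).2 ((repWith_yon_map_iff @IsOpenImmersion w).2
        (inferInstanceAs (IsOpenImmersion (V t).ι)))
    obtain ⟨F, j, hF, hj, hr⟩ := AlgSpFormal.OpenSet.exists_openSub hX'
      (hh.isOpenMap _ (isOpenEmbedding_map hu).isOpen_range)
    obtain ⟨k, hk⟩ := AlgSpFormal.ThickTopo.isPullback_of_range hu hj hr hh.bijective.1
    have hkt : IsThickMor k := repWith_baseChange hk hi
    haveI : IsAffine Vo.left := hV t
    obtain ⟨Q, -, ⟨eQ⟩⟩ := exists_affine hF hkt (T := Vo) (Iso.refl _) (hO t) (by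
      rintro _ ⟨v, rfl⟩
      exact hVO t v.1 v.2)
    refine ⟨Q, eQ.hom ≫ j, (repWith_iso_comp_iff @IsOpenImmersion _ _).2 hj, ?_⟩
    let t' : ↥Vo.left := (⟨t, htV t⟩ : ↥(V t))
    refine ⟨Points.map eQ.inv (Points.map k (Points.ofScheme Vo t')), ?_⟩
    rw [← Points.map_comp, eQ.inv_hom_id_assoc, ← Points.map_comp, ← hk.w, Points.map_comp]
    congr 1
    rw [Points.map_comp]
    congr 1
    rw [AlgSpDecent.Core.map_ofScheme]
    have h := ofPt_yon_map_comp w (𝟙 ((yon S).obj T)) t'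
    rw [Category.comp_id] at h
    exact h
  choose Q l hl hmem using hpiece
  obtain ⟨G, m, hm, hrange⟩ := AlgSpDecent.Glue.exists_union hl hX'
  have hs : Function.Surjective (Points.map m) := by
    intro x
    obtain ⟨y, rfl⟩ := hh.bijective.2 x
    have hy : ∃ t, Points.map e.hom (Points.ofScheme T t) = y := by
      obtain ⟨y', rfl⟩ : ∃ y', Points.map e.hom y' = y :=
        ⟨Points.map e.inv y, by rw [← Points.map_comp, e.inv_hom_id, Points.map_id]⟩
      obtain ⟨t, rfl⟩ := (Points.schemeHomeo T).surjective y'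
      exact ⟨t, rfl⟩
    obtain ⟨t, rfl⟩ := hy
    rw [← Set.mem_range, hrange]
    exact Set.mem_iUnion.2 ⟨t, hmem t⟩
  have := AlgSpDecent.OpenScheme.isIso_of_surjective hm hs
  exact ⟨G, ⟨asIso m⟩⟩

end Groth.Agent.Lib.AffThick
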