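import Groth.Agent.Lib.AffThick.Lift
import Groth.Agent.H95.TopInv.Glue
import Groth.Agent.Lib.Lim.Thickening
import Groth.Agent.Lib.AlgSpMor.RepDescent
import Groth.Agent.Lib.AlgSpMor.AffineDescent
import Groth.Agent.Lib.AlgSpMor.QC
import Groth.Agent.Lib.AlgSpFormal.ThickTopo

/-!
# A thickening of an affine scheme is an affine scheme
-/

set_option autoImplicit false
set_option linter.style.haveILetI false

universe u

open CategoryTheory CategoryTheory.Limits AlgebraicGeometry
open AlgSp Groth.Agent.Lib.AlgSpace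

namespace Groth.Agent.Lib.AffThick

variable {S : Scheme.{u}}

/-- The morphism of spectra of a ring map. -/
noncomputable abbrev spec {R R' : Type u} [CommRing R] [CommRing R'] (f : R →+* R') :
    Spec (CommRingCat.of R') ⟶ Spec (CommRingCat.of R) :=
  Spec.map (CommRingCat.ofHom f)

theorem spec_comp {R R' R'' : Type u} [CommRing R] [CommRing R'] [CommRing R''] (f : R →+* R')
    (g : R' →+* R'') : spec (g.comp f) = spec g ≫ spec f :=
  Spec.map_comp _ _

theorem spec_injective {R R' : Type u} [CommRing R] [CommRing R'] {f g : R →+* R'}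
    (h : spec f = spec g) : f = g :=
  congrArg CommRingCat.Hom.hom (Spec.map_injective h)

theorem spec_preimage {R R' : CommRingCat.{u}} (φ : Spec R' ⟶ Spec R) :
    spec (Spec.preimage φ).hom = φ :=
  Spec.map_preimage φ

theorem surjective_of_isClosedImmersion_spec {R R' : CommRingCat.{u}} (f : R ⟶ R')
    (h : IsClosedImmersion (Spec.map f)) : Function.Surjective f.hom := by
  have h₂ := (IsClosedImmersion.isAffine_surjective_of_isAffine (Spec.map f)).2
  have he : f = (Scheme.ΓSpecIso R).inv ≫ (Spec.map f).appTop ≫ (Scheme.ΓSpecIso R').hom := by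
    rw [Scheme.ΓSpecIso_naturality, Iso.inv_hom_id_assoc]
  rw [he]
  exact ((Scheme.ΓSpecIso R').commRingCatIsoToRingEquiv.surjective.comp h₂).comp
    (Scheme.ΓSpecIso R).commRingCatIsoToRingEquiv.symm.surjective

/-- Etale schemes which agree on a thickening are isomorphic. -/
theorem isIso_of_thickening {Y P Q P₀ : Scheme.{u}} (x : P ⟶ Y) (y : Q ⟶ Y) [Etale x] [Etale y]
    (φ : Q ⟶ P) (hφ : φ ≫ x = y) (j : P₀ ⟶ Q) [IsClosedImmersion j] [Surjective j]
    [IsClosedImmersion (j ≫ φ)] [Surjective (j ≫ φ)] : IsIso φ := by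
  obtain ⟨g, hg₁, hg₂⟩ := H95.TopInv.exists_hom y (j ≫ φ) j x (by rw [Category.assoc, hφ])
  refine ⟨g, H95.TopInv.hom_ext y j (by rw [← Category.assoc, hg₁, Category.comp_id])
    (by rw [Category.assoc, hg₂, hφ, Category.id_comp]), H95.TopInv.hom_ext x (j ≫ φ)
    (by rw [← Category.assoc, hg₁, Category.comp_id])
    (by rw [Category.assoc, hφ, hg₂, Category.id_comp])⟩

theorem exists_iso_spec (Y : Over S) [IsAffine Y.left] :
    ∃ (B : CommRingCat.{u}) (str : Spec B ⟶ S), Nonempty (Over.mk str ≅ Y) :=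
  ⟨Γ(Y.left, ⊤), Y.left.isoSpec.inv ≫ Y.hom, ⟨Over.isoMk Y.left.isoSpec.symm rfl⟩⟩

/-- A chart with affine self fibre product gives an affine etale equivalence relation. -/
theorem exists_etRel {X' : Sp S} {B C : CommRingCat.{u}} {sB : Spec B ⟶ S} {sC : Spec C ⟶ S}
    {p : (yon S).obj (Over.mk sB) ⟶ X'} (hp : RepWith @Etale p)
    (r₁ r₂ : Over.mk sC ⟶ Over.mk sB) (sq : IsPullback ((yon S).map r₁) ((yon S).map r₂) p p) :
    ∃ E : EtRel B C, spec E.r₁ = r₁.left ∧ spec E.r₂ = r₂.left := by
  let a₁ : B →+* C := (Spec.preimage r₁.left).hom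
  let a₂ : B →+* C := (Spec.preimage r₂.left).hom
  have h₁ : spec a₁ = r₁.left := spec_preimage _
  have h₂ : spec a₂ = r₂.left := spec_preimage _
  obtain ⟨d, hd⟩ := (yon S).map_surjective (sq.lift (𝟙 _) (𝟙 _) rfl)
  have hd₁ : d ≫ r₁ = 𝟙 _ := (yon S).map_injective (by
    rw [Functor.map_comp, hd, sq.lift_fst, CategoryTheory.Functor.map_id])
  have hd₂ : d ≫ r₂ = 𝟙 _ := (yon S).map_injective (by
    rw [Functor.map_comp, hd, sq.lift_snd, CategoryTheory.Functor.map_id])
  have het : Etale r₁.left := repWith_property hp sq.flip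
  have hpt : ∀ {L : Type u} [CommRing L] (l : C →+* L) (b : B →+* L),
      spec l ≫ sC = spec b ≫ sB →
      ∃ β : Over.mk (spec l ≫ sC) ⟶ Over.mk sB, β.left = spec b :=
    fun l b h => ⟨Over.homMk (spec b) h.symm, rfl⟩
  have hw₁ : ∀ {L : Type u} [CommRing L] (l : C →+* L),
      spec l ≫ sC = spec (l.comp a₁) ≫ sB := fun l => by
    rw [spec_comp, h₁, Category.assoc]
    exact congrArg (spec l ≫ ·) (Over.w r₁).symm
  have hw₂ : ∀ {L : Type u} [CommRing L] (l : C →+* L),
      spec l ≫ sC = spec (l.comp a₂) ≫ sB := fun l => by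
    rw [spec_comp, h₂, Category.assoc]
    exact congrArg (spec l ≫ ·) (Over.w r₂).symm
  refine ⟨⟨a₁, a₂, (Spec.preimage d.left).hom, ?_, ?_, ?_, ?_, ?_, ?_⟩, h₁, h₂⟩
  · rw [← HasRingHomProperty.Spec_iff (P := @Etale), Spec.map_preimage]
    exact het
  · apply spec_injective
    rw [spec_comp, h₁, spec_preimage, ← Over.comp_left, hd₁]
    exact Spec.map_id _ |>.symm
  · apply spec_injective
    rw [spec_comp, h₂, spec_preimage, ← Over.comp_left, hd₂]
    exact Spec.map_id _ |>.symm
  · intro L _ f g hf₁ hf₂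
    let φ : Over.mk (spec f ≫ sC) ⟶ Over.mk sC := Over.homMk (spec f) rfl
    let γ : Over.mk (spec f ≫ sC) ⟶ Over.mk sC := Over.homMk (spec g)
      (show spec g ≫ sC = spec f ≫ sC by rw [hw₁ g, hw₁ f, hf₁])
    have : φ = γ := (yon S).map_injective (sq.hom_ext
      (by rw [← Functor.map_comp, ← Functor.map_comp]; congr 1; refine Over.OverMorphism.ext ?_
          show spec f ≫ r₁.left = spec g ≫ r₁.left
          rw [← h₁, ← spec_comp, ← spec_comp, hf₁])
      (by rw [← Functor.map_comp, ← Functor.map_comp]; congr 1; refine Over.OverMorphism.ext ?_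
          show spec f ≫ r₂.left = spec g ≫ r₂.left
          rw [← h₂, ← spec_comp, ← spec_comp, hf₂]))
    exact spec_injective (congrArg (fun m => m.left) this)
  · intro L _ l
    let φ : Over.mk (spec l ≫ sC) ⟶ Over.mk sC := Over.homMk (spec l) rfl
    obtain ⟨ψ, hψ⟩ := (yon S).map_surjective (sq.lift ((yon S).map (φ ≫ r₂))
      ((yon S).map (φ ≫ r₁)) (by rw [Functor.map_comp, Functor.map_comp, Category.assoc,
        Category.assoc, sq.w]))
    have e₁ : ψ ≫ r₁ = φ ≫ r₂ := (yon S).map_injective (by rw [Functor.map_comp, hψ, sq.lift_fst])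
    have e₂ : ψ ≫ r₂ = φ ≫ r₁ := (yon S).map_injective (by rw [Functor.map_comp, hψ, sq.lift_snd])
    refine ⟨(Spec.preimage (R := CommRingCat.of C) (S := CommRingCat.of L) ψ.left).hom,
      spec_injective ?_, spec_injective ?_⟩
    · rw [spec_comp, spec_preimage, h₁, spec_comp, h₂]
      exact congrArg (fun m => m.left) e₁
    · rw [spec_comp, spec_preimage, h₂, spec_comp, h₁]
      exact congrArg (fun m => m.left) e₂
  · intro L _ l l' hll
    let φ : Over.mk (spec l ≫ sC) ⟶ Over.mk sC := Over.homMk (spec l) rfl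
    let φ' : Over.mk (spec l ≫ sC) ⟶ Over.mk sC := Over.homMk (spec l')
      (show spec l' ≫ sC = spec l ≫ sC by rw [hw₁ l', hw₂ l, hll])
    have heq : φ ≫ r₂ = φ' ≫ r₁ := Over.OverMorphism.ext (by
      show spec l ≫ r₂.left = spec l' ≫ r₁.left
      rw [← h₂, ← h₁, ← spec_comp, ← spec_comp, hll])
    obtain ⟨ψ, hψ⟩ := (yon S).map_surjective (sq.lift ((yon S).map (φ ≫ r₁))
      ((yon S).map (φ' ≫ r₂)) (by
        rw [Functor.map_comp, Functor.map_comp, Category.assoc, Category.assoc, sq.w, ← sq.w,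
          ← Category.assoc ((yon S).map φ'), ← Functor.map_comp, ← heq, Functor.map_comp,
          Category.assoc, sq.w]))
    have e₁ : ψ ≫ r₁ = φ ≫ r₁ := (yon S).map_injective (by rw [Functor.map_comp, hψ, sq.lift_fst])
    have e₂ : ψ ≫ r₂ = φ' ≫ r₂ := (yon S).map_injective (by rw [Functor.map_comp, hψ, sq.lift_snd])
    refine ⟨(Spec.preimage (R := CommRingCat.of C) (S := CommRingCat.of L) ψ.left).hom,
      spec_injective ?_, spec_injective ?_⟩
    · rw [spec_comp, spec_preimage, h₁, spec_comp, h₁]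
      exact congrArg (fun m => m.left) e₁
    · rw [spec_comp, spec_preimage, h₂, spec_comp, h₂]
      exact congrArg (fun m => m.left) e₂

/-- A thickening of an affine scheme lying over an affine open of the base is an affine scheme. -/
theorem exists_affine {X X' : Sp S} (hX' : IsAlgSpace X') {i : X ⟶ X'} (hi : IsThickMor i)
    {T : Over S} [IsAffine T.left] (e : (yon S).obj T ≅ X) {O : S.Opens} (hO : IsAffineOpen O)
    (hT : Set.range T.hom ⊆ (O : Set ↥S)) :
    ∃ T' : Over S, IsAffine T'.left ∧ Nonempty ((yon S).obj T' ≅ X') := by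
  classical
  obtain ⟨A, sA, ⟨εT⟩⟩ := exists_iso_spec T
  let e' : (yon S).obj (Over.mk sA) ≅ X := (yon S).mapIso εT ≪≫ e
  haveI : IsAffine (Over.mk sA).left := inferInstanceAs (IsAffine (Spec A))
  have hsur : Function.Surjective (Points.map e'.hom) := fun y =>
    ⟨Points.map e'.inv y, by rw [← Points.map_comp, e'.inv_hom_id, Points.map_id]⟩
  have hTA : Set.range sA ⊆ (O : Set ↥S) := by
    rintro _ ⟨x, rfl⟩
    refine hT ⟨εT.hom.left x, ?_⟩
    rw [← Scheme.Hom.comp_apply, Over.w εT.hom]
    rfl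
  -- an affine atlas
  have : CompactSpace (Points X') := by
    have hc : CompactSpace (Points ((yon S).obj (Over.mk sA))) := AlgSpMor.QC.compactSpace_yon
    refine ⟨?_⟩
    rw [← Set.image_univ_of_surjective ((AlgSpFormal.ThickTopo.isHomeomorph_map hi).bijective.2.comp
      hsur)]
    exact isCompact_univ.image ((Points.continuous_map i).comp (Points.continuous_map e'.hom))
  obtain ⟨Y₀, p₀, hY₀, hp₀, hps₀⟩ := AlgSpMor.QC.exists_affine_atlas hX'
  obtain ⟨B, sB, ⟨εY⟩⟩ := exists_iso_spec Y₀
  haveI : IsAffine (Over.mk sB).left := inferInstanceAs (IsAffine (Spec B))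
  let p : (yon S).obj (Over.mk sB) ⟶ X' := (yon S).map εY.hom ≫ p₀
  have hp : RepWith @Etale p :=
    (repWith_iso_comp_iff @Etale _ _).2 hp₀
  have hps : RepWith @Surjective p :=
    (repWith_iso_comp_iff @Surjective _ _).2 hps₀
  -- its restriction to the affine scheme
  obtain ⟨V, v, fst₀, sqV, hv⟩ := repWith_exists hi p
  have : IsClosedImmersion v.left := hv.1
  have : Surjective v.left := hv.2
  have : IsAffine V.left := isAffine_of_isAffineHom v.left
  obtain ⟨Bb, sBb, ⟨εV⟩⟩ := exists_iso_spec V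
  haveI : IsAffine (Over.mk sBb).left := inferInstanceAs (IsAffine (Spec Bb))
  let j : Over.mk sBb ⟶ Over.mk sB := εV.hom ≫ v
  have : IsIso εV.hom.left := inferInstanceAs (IsIso ((Over.forget S).map εV.hom))
  have hjc : IsClosedImmersion j.left := inferInstanceAs (IsClosedImmersion (εV.hom.left ≫ v.left))
  have hjs : Surjective j.left := inferInstanceAs (Surjective (εV.hom.left ≫ v.left))
  obtain ⟨π₀, hπ₀⟩ := (yon S).map_surjective ((yon S).map εV.hom ≫ fst₀ ≫ e'.inv)
  have sqY : IsPullback ((yon S).map π₀ ≫ e'.hom) ((yon S).map j) i p :=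
    IsPullback.of_iso sqV ((yon S).mapIso εV.symm) (Iso.refl _) (Iso.refl _) (Iso.refl _)
      (by simp [hπ₀]) (by simp [j]) (by simp) (by simp)
  have hπet : Etale π₀.left := by
    exact (repWith_yon_map_iff @Etale π₀).1
      ((repWith_comp_iso_iff @Etale _ e'.hom).1 (repWith_baseChange sqY.flip hp))
  have hπsu : Surjective π₀.left := by
    exact (repWith_yon_map_iff @Surjective π₀).1
      ((repWith_comp_iso_iff @Surjective _ e'.hom).1 (repWith_baseChange sqY.flip hps))
  let a₀ : A ⟶ Bb := Spec.preimage π₀.left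
  have ha₀ : Spec.map a₀ = π₀.left := Spec.map_preimage _
  letI : Algebra A Bb := a₀.hom.toAlgebra
  haveI : Algebra.Etale A Bb := by
    have : a₀.hom.Etale := by
      rw [← HasRingHomProperty.Spec_iff (P := @Etale), ha₀]; exact hπet
    exact this
  haveI : Module.FaithfullyFlat A Bb := Module.FaithfullyFlat.of_comap_surjective (by
    have h := hπsu.surj
    rw [← ha₀] at h
    exact h)
  -- the self fibre product of the restricted atlas
  let Cb : CommRingCat.{u} := CommRingCat.of (TensorProduct A Bb Bb)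
  let i₁ : Bb ⟶ Cb := CommRingCat.ofHom Algebra.TensorProduct.includeLeftRingHom
  let i₂ : Bb ⟶ Cb :=
    CommRingCat.ofHom (Algebra.TensorProduct.includeRight (R := A) (A := Bb) (B := Bb)).toRingHom
  have sqS : IsPullback (Spec.map i₁) (Spec.map i₂) π₀.left π₀.left := by
    rw [← ha₀]
    exact isPullback_SpecMap_of_isPushout _ _ _ _ (CommRingCat.isPushout_tensorProduct A Bb Bb)
  let sP : Spec Cb ⟶ S := Spec.map i₁ ≫ sBb
  haveI : IsAffine (Over.mk sP).left := inferInstanceAs (IsAffine (Spec Cb))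
  let fstP : Over.mk sP ⟶ Over.mk sBb := Over.homMk (Spec.map i₁) rfl
  let sndP : Over.mk sP ⟶ Over.mk sBb := Over.homMk (Spec.map i₂) (by
    show Spec.map i₂ ≫ sBb = Spec.map i₁ ≫ sBb
    rw [← show π₀.left ≫ sA = sBb from Over.w π₀, reassoc_of% sqS.w])
  have sqP : IsPullback fstP sndP π₀ π₀ := IsPullback.of_map_of_faithful (Over.forget S) sqS
  have key : ∀ {R : Over S} (r₁ r₂ : R ⟶ Over.mk sB),
      IsPullback ((yon S).map r₁) ((yon S).map r₂) p p →
      ∃ c : Over.mk sP ⟶ R, c ≫ r₂ = sndP ≫ j ∧ IsPullback c fstP r₁ j := by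
    intro R r₁ r₂ sqR
    have h2 : IsPullback ((yon S).map fstP) ((yon S).map (sndP ≫ j)) ((yon S).map j ≫ p) p := by
      have sqY' : IsPullback ((yon S).map π₀) ((yon S).map j) (e'.hom ≫ i) p :=
        IsPullback.of_iso sqY (Iso.refl _) e'.symm (Iso.refl _) (Iso.refl _)
          (by simp) (by simp) (by simp) (by simp)
      have h := (sqP.map (yon S)).paste_vert sqY'
      rw [← Functor.map_comp, sqY'.w] at h
      exact h
    obtain ⟨c, hc⟩ := (yon S).map_surjective (sqR.lift ((yon S).map (fstP ≫ j))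
      ((yon S).map (sndP ≫ j)) (by rw [Functor.map_comp, Category.assoc]; exact h2.w))
    have c₁ : c ≫ r₁ = fstP ≫ j := (yon S).map_injective (by rw [Functor.map_comp, hc, sqR.lift_fst])
    have c₂ : c ≫ r₂ = sndP ≫ j := (yon S).map_injective (by rw [Functor.map_comp, hc, sqR.lift_snd])
    refine ⟨c, c₂, isPullback_of_yon_map (IsPullback.of_right ?_ ?_ sqR.flip)⟩
    · rw [← Functor.map_comp, c₂]
      exact h2.flip
    · rw [← Functor.map_comp, ← Functor.map_comp, c₁]
  obtain ⟨R₀, t₁, t₂, sqR₀⟩ := exists_isPullback_yon hX'.diag p p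
  have hR₀ : IsAffine R₀.left := by
    obtain ⟨c, -, sqc⟩ := key t₁ t₂ sqR₀
    have := sqc.map (Over.forget S)
    have : IsClosedImmersion c.left :=
      MorphismProperty.of_isPullback (P := @IsClosedImmersion) this.flip hjc
    have : Surjective c.left :=
      MorphismProperty.of_isPullback (P := @Surjective) ‹IsPullback _ _ _ _›.flip hjs
    exact Lim.Thickening.isAffine_of_surjective c.left
  obtain ⟨C, sC, ⟨εR⟩⟩ := exists_iso_spec R₀
  let r₁ : Over.mk sC ⟶ Over.mk sB := εR.hom ≫ t₁
  let r₂ : Over.mk sC ⟶ Over.mk sB := εR.hom ≫ t₂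
  have sqR : IsPullback ((yon S).map r₁) ((yon S).map r₂) p p :=
    IsPullback.of_iso sqR₀ ((yon S).mapIso εR.symm) (Iso.refl _) (Iso.refl _) (Iso.refl _)
      (by simp [r₁]) (by simp [r₂]) (by simp) (by simp)
  obtain ⟨E, hE₁, hE₂⟩ := exists_etRel hp r₁ r₂ sqR
  obtain ⟨c, hc₂, sqc⟩ := key r₁ r₂ sqR
  have sqc' : IsPullback c.left (Spec.map i₁) r₁.left j.left := sqc.map (Over.forget S)
  have hcc : IsClosedImmersion c.left :=
    MorphismProperty.of_isPullback (P := @IsClosedImmersion) sqc'.flip hjc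
  have hcs : Surjective c.left := MorphismProperty.of_isPullback (P := @Surjective) sqc'.flip hjs
  let π : B ⟶ Bb := Spec.preimage j.left
  have hπj : Spec.map π = j.left := Spec.map_preimage _
  let πC : C ⟶ Cb := Spec.preimage c.left
  have hπC : Spec.map πC = c.left := Spec.map_preimage _
  have hπsurj : Function.Surjective π.hom := by
    exact surjective_of_isClosedImmersion_spec π (hπj.symm ▸ hjc)
  have hπnil : RingHom.ker π.hom ≤ nilradical B := by
    intro x hx
    rw [nilradical_eq_sInf, Ideal.mem_sInf]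
    intro q hq
    have h := hjs.surj
    rw [← hπj] at h
    obtain ⟨z, hz⟩ := h (⟨q, hq⟩ : PrimeSpectrum B)
    have hq' : q = z.asIdeal.comap π.hom := congrArg PrimeSpectrum.asIdeal hz.symm
    rw [hq', Ideal.mem_comap, show π.hom x = 0 from hx]
    exact zero_mem _
  have e₁ : ∀ b, πC.hom (E.r₁ b) = π.hom b ⊗ₜ[A] (1 : Bb) := by
    intro b
    have h : Spec.map (CommRingCat.ofHom E.r₁ ≫ πC) = Spec.map (π ≫ i₁) := by
      rw [Spec.map_comp, Spec.map_comp, hπC, hπj]
      exact (congrArg (c.left ≫ ·) hE₁).trans sqc'.w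
    exact RingHom.congr_fun (congrArg CommRingCat.Hom.hom (Spec.map_injective h)) b
  have e₂ : ∀ b, πC.hom (E.r₂ b) = (1 : Bb) ⊗ₜ[A] π.hom b := by
    intro b
    have h : Spec.map (CommRingCat.ofHom E.r₂ ≫ πC) = Spec.map (π ≫ i₂) := by
      rw [Spec.map_comp, Spec.map_comp, hπC, hπj]
      exact (congrArg (c.left ≫ ·) hE₂).trans (congrArg (fun m => m.left) hc₂)
    exact RingHom.congr_fun (congrArg CommRingCat.Hom.hom (Spec.map_injective h)) b
  have hπCsurj : Function.Surjective πC.hom := by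
    exact surjective_of_isClosedImmersion_spec πC (hπC.symm ▸ hcc)
  have hker : RingHom.ker πC.hom = (RingHom.ker π.hom).map E.r₁ := by
    have hpo : IsPushout (CommRingCat.ofHom E.r₁) π πC i₁ := by
      have h : IsPullback (Scheme.Spec.map πC.op) (Scheme.Spec.map i₁.op)
          (Scheme.Spec.map (CommRingCat.ofHom E.r₁).op) (Scheme.Spec.map π.op) := by
        show IsPullback (Spec.map πC) (Spec.map i₁) (spec E.r₁) (Spec.map π)
        rw [hπC, hπj, hE₁]
        exact sqc'
      exact (IsPullback.of_map_of_faithful Scheme.Spec h).unop.flip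
    refine le_antisymm ?_ ?_
    · intro x hx
      let q : C →+* C ⧸ (RingHom.ker π.hom).map E.r₁ := Ideal.Quotient.mk _
      have hle : RingHom.ker π.hom ≤ RingHom.ker (q.comp E.r₁) := fun z hz =>
        Ideal.Quotient.eq_zero_iff_mem.2 (Ideal.mem_map_of_mem _ hz)
      let g : Bb →+* _ := π.hom.liftOfSurjective hπsurj ⟨_, hle⟩
      have hg : g.comp π.hom = q.comp E.r₁ := RingHom.ext fun z =>
        RingHom.liftOfRightInverse_comp_apply π.hom _ (Function.rightInverse_surjInv hπsurj) ⟨_, hle⟩ z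
      let u := hpo.desc (CommRingCat.ofHom q) (CommRingCat.ofHom g)
        (CommRingCat.hom_ext hg.symm)
      have hu : πC ≫ u = CommRingCat.ofHom q := hpo.inl_desc _ _ _
      rw [← Ideal.Quotient.eq_zero_iff_mem]
      have := RingHom.congr_fun (congrArg CommRingCat.Hom.hom hu) x
      change u.hom (πC.hom x) = q x at this
      rw [show πC.hom x = 0 from hx, map_zero] at this
      exact this.symm
    · rw [Ideal.map_le_iff_le_comap]
      intro x hx
      show πC.hom (E.r₁ x) = 0
      rw [e₁, show π.hom x = 0 from hx, TensorProduct.zero_tmul]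
  -- the ring of functions
  let A' : Subring B := RingHom.eqLocus E.r₁ E.r₂
  have hlift : ∀ a : A, ∃ b : A', π.hom b = algebraMap A Bb a := fun a => by
    obtain ⟨b, hb₁, hb₂⟩ := exists_lift E π.hom hπsurj hπnil πC.hom hπCsurj hker e₁ e₂ a
    exact ⟨⟨b, hb₁⟩, hb₂⟩
  have hval : ∀ b : A', ∃ a : A, algebraMap A Bb a = π.hom b := fun b => by
    refine ((Algebra.IsEffective.of_faithfullyFlat A Bb) (π.hom b)).1 ?_
    rw [Algebra.TensorProduct.includeLeftSubRight_apply, ← e₁, ← e₂,
      show E.r₁ (b : B) = E.r₂ b from b.2, sub_self]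
  have hinj : Function.Injective (algebraMap A Bb) := FaithfulSMul.algebraMap_injective A Bb
  choose κ₀ hκ₀ using hval
  let κ : A' →+* A :=
    { toFun := κ₀
      map_one' := hinj (by rw [hκ₀]; simp)
      map_mul' := fun x y => hinj (by rw [hκ₀, map_mul, hκ₀, hκ₀, Subring.coe_mul, map_mul])
      map_zero' := hinj (by rw [hκ₀]; simp)
      map_add' := fun x y => hinj (by rw [hκ₀, map_add, hκ₀, hκ₀, Subring.coe_add, map_add]) }
  have hκ : ∀ b, algebraMap A Bb (κ b) = π.hom b := hκ₀
  have hκs : Function.Surjective κ := fun a => by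
    obtain ⟨b, hb⟩ := hlift a
    exact ⟨b, hinj (by rw [hκ, hb])⟩
  have hκn : RingHom.ker κ ≤ nilradical A' := fun b hb => by
    obtain ⟨n, hn⟩ := hπnil (show π.hom b = 0 by rw [← hκ, show κ b = 0 from hb, map_zero])
    exact ⟨n, Subtype.ext hn⟩
  obtain ⟨hkc, hks⟩ := surjective_specMap κ hκs hκn
  -- the structure morphism of the quotient
  have hY : Set.range sB ⊆ (O : Set ↥S) := by
    rintro _ ⟨y, rfl⟩
    obtain ⟨x, rfl⟩ := hjs.surj y
    rw [← Scheme.Hom.comp_apply, show j.left ≫ sB = sBb from Over.w j,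
      ← show π₀.left ≫ sA = sBb from Over.w π₀, Scheme.Hom.comp_apply]
    exact hTA ⟨_, rfl⟩
  let σ : Spec B ⟶ O.toScheme := IsOpenImmersion.lift O.ι sB (by simpa using hY)
  have hσ : σ ≫ O.ι = sB := IsOpenImmersion.lift_fac _ _ _
  let ω₀ : Γ(O.toScheme, ⊤) ⟶ B := Spec.preimage (σ ≫ O.toScheme.toSpecΓ)
  have : IsAffine O.toScheme := hO
  have hω₀ : Spec.map ω₀ ≫ inv O.toScheme.toSpecΓ ≫ O.ι = sB := by
    rw [Spec.map_preimage, Category.assoc, IsIso.hom_inv_id_assoc, hσ]
  have hωeq : ∀ z, E.r₁ (ω₀.hom z) = E.r₂ (ω₀.hom z) := by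
    intro z
    have h : Spec.map (ω₀ ≫ CommRingCat.ofHom E.r₁) = Spec.map (ω₀ ≫ CommRingCat.ofHom E.r₂) := by
      rw [← cancel_mono (inv O.toScheme.toSpecΓ ≫ O.ι), Spec.map_comp, Spec.map_comp,
        Category.assoc, Category.assoc, hω₀]
      show spec E.r₁ ≫ sB = spec E.r₂ ≫ sB
      rw [hE₁, hE₂]
      exact (Over.w r₁).trans (Over.w r₂).symm
    exact RingHom.congr_fun (congrArg CommRingCat.Hom.hom (Spec.map_injective h)) z
  let ω' : Γ(O.toScheme, ⊤) →+* A' := RingHom.codRestrict ω₀.hom A' hωeq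
  let sT : Spec (CommRingCat.of A') ⟶ S := spec ω' ≫ inv O.toScheme.toSpecΓ ≫ O.ι
  have hincl : spec A'.subtype ≫ sT = sB := by
    show spec A'.subtype ≫ spec ω' ≫ _ = _
    rw [← Category.assoc, ← spec_comp]
    exact hω₀
  let q : Over.mk sB ⟶ Over.mk sT := Over.homMk (spec A'.subtype) hincl
  have hq : r₁ ≫ q = r₂ ≫ q := Over.OverMorphism.ext (by
    show r₁.left ≫ spec A'.subtype = r₂.left ≫ spec A'.subtype
    rw [← hE₁, ← hE₂, ← spec_comp, ← spec_comp]
    exact congrArg spec (RingHom.ext fun b => b.2))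
  have := isLocallySurjective_of_etale hp hps
  obtain ⟨g', hg'⟩ := exists_desc p sqR ((yon S).map q)
    (by rw [← Functor.map_comp, ← Functor.map_comp, hq])
  -- the etale cover of the quotient
  let ιA : Spec A ⟶ Spec (CommRingCat.of A') := spec κ
  haveI : IsClosedImmersion ιA := hkc
  haveI : Surjective ιA := hks
  have hsq : π₀.left ≫ ιA = j.left ≫ spec A'.subtype := by
    rw [← ha₀, ← hπj]
    show Spec.map a₀ ≫ Spec.map (CommRingCat.ofHom κ) = Spec.map π ≫ Spec.map (CommRingCat.ofHom A'.subtype)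
    rw [← Spec.map_comp, ← Spec.map_comp]
    congr 1
    exact CommRingCat.hom_ext (RingHom.ext hκ)
  obtain ⟨W, gW, jW, hgW, sqW⟩ := H95.TopInv.exists_lift ιA π₀.left
  haveI := hgW
  haveI hjWc : IsClosedImmersion jW :=
    MorphismProperty.of_isPullback (P := @IsClosedImmersion) sqW.flip hkc
  haveI hjWs : Surjective jW := MorphismProperty.of_isPullback (P := @Surjective) sqW.flip hks
  haveI : IsAffine W := Lim.Thickening.isAffine_of_surjective jW
  haveI : Surjective gW := ⟨fun a => by
    obtain ⟨x, rfl⟩ := (π₀.left ≫ ιA).surjective a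
    exact ⟨jW x, by rw [← Scheme.Hom.comp_apply, sqW.w]⟩⟩
  obtain ⟨ωl, hω₁, hω₂⟩ := H95.TopInv.exists_hom gW j.left jW (spec A'.subtype)
    (by rw [sqW.w, hsq])
  let Wo : Over S := Over.mk (gW ≫ sT)
  let gWo : Wo ⟶ Over.mk sT := Over.homMk gW rfl
  let ω : Over.mk sB ⟶ Wo := Over.homMk ωl (by
    show ωl ≫ gW ≫ sT = sB
    rw [reassoc_of% hω₂, hincl])
  have hωq : ω ≫ gWo = q := Over.OverMorphism.ext hω₂
  -- the relation is the fibre product with the cover
  let ν : Over.mk sC ⟶ pullback q gWo := pullback.lift r₁ (r₂ ≫ ω)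
    (hq.trans ((congrArg (r₂ ≫ ·) hωq.symm).trans (Category.assoc _ _ _).symm))
  have hν : IsIso ν := by
    have sqQ := (IsPullback.of_hasPullback q gWo).map (Over.forget S)
    have : IsIso ν.left := by
      haveI : Etale r₁.left := repWith_property hp sqR.flip
      haveI : Etale (pullback.fst q gWo).left :=
        MorphismProperty.of_isPullback (P := @Etale) sqQ.flip hgW
      haveI := hcc
      haveI := hcs
      have hwν : ν.left ≫ (pullback.fst q gWo).left = r₁.left :=
        congrArg (fun m => m.left) (pullback.lift_fst r₁ (r₂ ≫ ω) _)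
      have sq₁ : IsPullback (Spec.map i₁) (Spec.map i₂ ≫ jW) (j.left ≫ spec A'.subtype) gW := by
        rw [← hsq]
        exact sqS.paste_vert sqW.flip
      have sq₂ : IsPullback (c.left ≫ ν.left) (Spec.map i₁) (pullback.fst q gWo).left j.left := by
        have h1 : (c.left ≫ ν.left) ≫ (pullback.fst q gWo).left = Spec.map i₁ ≫ j.left := by
          rw [Category.assoc, hwν]; exact sqc'.w
        have h2 : (c.left ≫ ν.left) ≫ (pullback.snd q gWo).left = Spec.map i₂ ≫ jW := by
          have e3 : ν ≫ pullback.snd q gWo = r₂ ≫ ω := pullback.lift_snd _ _ _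
          rw [Category.assoc, ← Over.comp_left, e3, ← hω₁]
          exact (congrArg (fun m => (m ≫ ω).left) hc₂).trans (Category.assoc _ _ _)
        refine (IsPullback.of_right ?_ h1 sqQ.flip).flip.flip
        show IsPullback ((c.left ≫ ν.left) ≫ (pullback.snd q gWo).left) (Spec.map i₁) gW
          (j.left ≫ spec A'.subtype)
        rw [h2]
        exact sq₁.flip
      haveI : IsClosedImmersion (c.left ≫ ν.left) :=
        MorphismProperty.of_isPullback (P := @IsClosedImmersion) sq₂.flip hjc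
      haveI : Surjective (c.left ≫ ν.left) :=
        MorphismProperty.of_isPullback (P := @Surjective) sq₂.flip hjs
      exact isIso_of_thickening (pullback.fst q gWo).left r₁.left ν.left hwν c.left
    haveI : IsIso ((Over.forget S).map ν) := this
    exact isIso_of_reflects_iso ν (Over.forget S)
  have hν₁ : inv ν ≫ r₁ = pullback.fst q gWo := by
    rw [IsIso.inv_comp_eq]; exact (pullback.lift_fst _ _ _).symm
  have hν₂ : inv ν ≫ r₂ ≫ ω = pullback.snd q gWo := by
    rw [IsIso.inv_comp_eq]; exact (pullback.lift_snd _ _ _).symm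
  have uniq : ∀ (U : Over S) (a b : U ⟶ Over.mk sB),
      (yon S).map a ≫ p = (yon S).map b ≫ p → a ≫ ω = b ≫ ω → a = b := by
    intro U a b hab hω
    obtain ⟨z, hz⟩ := (yon S).map_surjective (sqR.lift ((yon S).map a) ((yon S).map b) hab)
    obtain ⟨δ, hδ⟩ := (yon S).map_surjective (sqR.lift ((yon S).map a) ((yon S).map a) rfl)
    have z₁ : z ≫ r₁ = a := (yon S).map_injective (by rw [Functor.map_comp, hz, sqR.lift_fst])
    have z₂ : z ≫ r₂ = b := (yon S).map_injective (by rw [Functor.map_comp, hz, sqR.lift_snd])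
    have d₁ : δ ≫ r₁ = a := (yon S).map_injective (by rw [Functor.map_comp, hδ, sqR.lift_fst])
    have d₂ : δ ≫ r₂ = a := (yon S).map_injective (by rw [Functor.map_comp, hδ, sqR.lift_snd])
    have : z ≫ ν = δ ≫ ν := by
      apply pullback.hom_ext
      · rw [Category.assoc, Category.assoc, pullback.lift_fst, z₁, d₁]
      · rw [Category.assoc, Category.assoc, pullback.lift_snd, reassoc_of% z₂, reassoc_of% d₂, hω]
    rw [cancel_mono] at this
    rw [← z₂, this, d₂]
  have sqF : IsPullback p ((yon S).map ω) g' ((yon S).map gWo) := by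
    refine isPullback_of_yon (by rw [hg', ← Functor.map_comp, hωq]) (fun U a b ha hb => ?_)
      fun U x w hxw => ?_
    · obtain ⟨a, rfl⟩ := (yon S).map_surjective a
      obtain ⟨b, rfl⟩ := (yon S).map_surjective b
      congr 1
      exact uniq U a b ha ((yon S).map_injective (by rw [Functor.map_comp, Functor.map_comp, hb]))
    · obtain ⟨w, rfl⟩ := (yon S).map_surjective w
      obtain ⟨U₁, t, y, sqU⟩ := exists_isPullback_yon hX'.diag x p
      have ht : Etale t.left := repWith_property hp sqU.flip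
      have hts : Surjective t.left := repWith_property hps sqU.flip
      have hyw : y ≫ q = (t ≫ w) ≫ gWo := (yon S).map_injective (by
        rw [Functor.map_comp, Functor.map_comp, ← hg', ← sqU.w_assoc, hxw, Functor.map_comp,
          Category.assoc])
      let z : U₁ ⟶ Over.mk sC := pullback.lift y (t ≫ w) hyw ≫ inv ν
      obtain ⟨c₁, hc₁⟩ : ∃ c₁ : U₁ ⟶ Over.mk sB, c₁ = z ≫ r₂ := ⟨_, rfl⟩
      have hc1p : (yon S).map c₁ ≫ p = (yon S).map t ≫ x := by
        rw [hc₁]
        rw [Functor.map_comp, Category.assoc, ← sqR.w, ← Category.assoc, ← Functor.map_comp,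
          Category.assoc, hν₁, pullback.lift_fst, sqU.w]
      have hc1ω : c₁ ≫ ω = t ≫ w := by
        rw [hc₁, Category.assoc, Category.assoc, hν₂, pullback.lift_snd]
      have hcov : fppfCover t.left := fppfCover_mk t.left
      have := isLocallySurjective_yon_map t hcov
      have := epi_yon_map t hcov
      have sqK := (IsPullback.of_hasPullback t t).map (yon S)
      have hd : pullback.fst t t ≫ c₁ = pullback.snd t t ≫ c₁ := by
        refine uniq _ _ _ ?_ ?_
        · rw [Functor.map_comp, Functor.map_comp, Category.assoc, Category.assoc, hc1p,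
            ← Functor.map_comp_assoc, ← Functor.map_comp_assoc, pullback.condition]
        · rw [Category.assoc, Category.assoc, hc1ω, pullback.condition_assoc]
      obtain ⟨l, hl⟩ := exists_desc ((yon S).map t) sqK ((yon S).map c₁)
        (by rw [← Functor.map_comp, ← Functor.map_comp, hd])
      refine ⟨l, ?_, ?_⟩
      · rw [← cancel_epi ((yon S).map t), ← Category.assoc, hl, hc1p]
      · rw [← cancel_epi ((yon S).map t), ← Category.assoc, hl, ← Functor.map_comp, hc1ω,
          Functor.map_comp]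
  have := AlgSpMor.AffineDescent.isLocalAtTarget_isAffineHom.{u}
  have hgWet : RepWith @Etale ((yon S).map gWo) := repWith_etale_yon_map (g := gWo) hgW
  have hrep : RepWith @IsAffineHom g' := AlgSpMor.RepDescent.repWith_of_cover _
    AlgSpMor.RepDescent.effective_isAffineHom (IsAlgSpace.yon_obj (Over.mk sT)).diag hgWet
    (repWith_surjective_yon_map (g := gWo) ‹Surjective gW›) sqF
    ((repWith_yon_map_iff _ ω).2 (by
      haveI : IsAffine (Over.mk sB).left := inferInstanceAs (IsAffine (Spec B))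
      haveI : IsAffine Wo.left := ‹IsAffine W›
      exact isAffineHom_of_isAffine ω.left))
  obtain ⟨T', g, fst, sqT, hg⟩ := repWith_exists hrep (𝟙 ((yon S).obj (Over.mk sT)))
  have : IsIso fst := sqT.isIso_fst_of_isIso
  haveI : IsAffineHom g.left := hg
  haveI : IsAffine (Over.mk sT).left := inferInstanceAs (IsAffine (Spec _))
  exact ⟨T', isAffine_of_isAffineHom g.left, ⟨asIso fst⟩⟩

end Groth.Agent.Lib.AffThick
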