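import Groth.Agent.Lib.AffThick.Mor
import Groth.Agent.Lib.AlgSpFormal.ThickDiag
import Groth.Agent.Lib.AlgSpThick.Cart
import Groth.Agent.H54.ThickAffine
import Groth.Agent.H54.ThickLocal

/-!
# Global properties along cartesian morphisms of thickenings
-/

set_option autoImplicit false
set_option linter.style.haveILetI false

universe u

open CategoryTheory CategoryTheory.Limits AlgebraicGeometry
open AlgSp Groth.Agent.Lib.AlgSpace

namespace Groth.Agent.Lib.AffThick.CartProp

variable {S : Scheme.{u}} {X X' Y Y' : Sp S} {i : X ⟶ X'} {j : Y ⟶ Y'} {f : X ⟶ Y} {f' : X' ⟶ Y'}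

/-- A chart of the thickened morphism restricts to a chart of the original one. -/
theorem exists_restrict (hj : IsThickMor j) (hcart : IsPullback i f f' j) {W T : Over S}
    {ξ : (yon S).obj T ⟶ Y'} {fst : (yon S).obj W ⟶ X'} {g : W ⟶ T}
    (sq : IsPullback fst ((yon S).map g) f' ξ) :
    ∃ (W₀ T₀ : Over S) (v : T₀ ⟶ T) (η : (yon S).obj T₀ ⟶ Y) (iW : W₀ ⟶ W) (g₀ : W₀ ⟶ T₀)
      (a : (yon S).obj W₀ ⟶ X), IsPullback iW.left g₀.left g.left v.left ∧
      IsClosedImmersion v.left ∧ Surjective v.left ∧ IsPullback a ((yon S).map g₀) f η := by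
  obtain ⟨T₀, v, η, sqT, hv⟩ := repWith_exists hj ξ
  have sqW := IsPullback.of_hasPullback g v
  let a := hcart.lift ((yon S).map (pullback.fst g v) ≫ fst)
    ((yon S).map (pullback.snd g v) ≫ η) (by
      rw [Category.assoc, Category.assoc, sq.w, sqT.w, ← Functor.map_comp_assoc, sqW.w,
        Functor.map_comp_assoc])
  refine ⟨_, T₀, v, η, pullback.fst g v, pullback.snd g v, a, sqW.map (Over.forget S), hv.1, hv.2,
    IsPullback.of_right ?_ (hcart.lift_snd _ _ _) hcart⟩
  rw [hcart.lift_fst, sqT.w]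
  exact (isPullback_yon sqW).paste_horiz sq

/-- A property of schemes that lifts along locally of finite type thickened squares lifts to
cartesian morphisms of thickenings of algebraic spaces. -/
theorem repWith_lift {P : MorphismProperty Scheme.{u}} [P.IsStableUnderBaseChange]
    (key : ∀ {W₀ W T₀ T : Scheme.{u}} {iW : W₀ ⟶ W} {v : T₀ ⟶ T} {g₀ : W₀ ⟶ T₀} {g : W ⟶ T},
      IsPullback iW g₀ g v → IsClosedImmersion v → Surjective v → LocallyOfFiniteType g →
      P g₀ → P g)
    (hX' : IsAlgSpace X') (hY' : IsAlgSpace Y') (hi : IsThickMor i) (hj : IsThickMor j)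
    (hcart : IsPullback i f f' j) (hft' : LocP @LocallyOfFiniteType f') (hf : RepWith P f) :
    RepWith P f' := by
  have hr : Representable f' := (representable_iff hX' hY' hi hj hcart.w).1 hf.1
  have hl := AlgSpMor.LocP.repWith_of_locP SourceDescent.Scheme.locallyOfFiniteType hY' hr hft'
  refine repWith_of_exists fun T ξ ↦ ⟨hr.pullback ξ, hr.snd ξ, hr.fst ξ, hr.isPullback ξ, ?_⟩
  obtain ⟨W₀, T₀, v, η, iW, g₀, a, sq, hc, hs, sq₀⟩ := exists_restrict hj hcart (hr.isPullback ξ)
  exact key sq hc hs (repWith_property hl (hr.isPullback ξ)) (repWith_property hf sq₀)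

theorem closedImmersion_lift (hX' : IsAlgSpace X') (hY' : IsAlgSpace Y') (hi : IsThickMor i)
    (hj : IsThickMor j) (hcart : IsPullback i f f' j) (hft' : LocP @LocallyOfFiniteType f')
    (hf : RepWith @IsClosedImmersion f) : RepWith @IsClosedImmersion f' :=
  repWith_lift (P := @IsClosedImmersion)
    (fun sq hc hs hl h => H54.ThickLocal.isClosedImmersion_of_thickening sq)
    hX' hY' hi hj hcart hft' hf

theorem immersion_lift (hX' : IsAlgSpace X') (hY' : IsAlgSpace Y') (hi : IsThickMor i)
    (hj : IsThickMor j) (hcart : IsPullback i f f' j) (hft' : LocP @LocallyOfFiniteType f')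
    (hf : RepWith @IsImmersion f) : RepWith @IsImmersion f' :=
  repWith_lift (P := @IsImmersion)
    (fun sq hc hs hl h => H54.ThickLocal.isImmersion_of_thickening sq)
    hX' hY' hi hj hcart hft' hf

theorem finite_lift (hX' : IsAlgSpace X') (hY' : IsAlgSpace Y') (hi : IsThickMor i)
    (hj : IsThickMor j) (hcart : IsPullback i f f' j) (hft' : LocP @LocallyOfFiniteType f')
    (hf : AlgSp.IsFiniteMor f) : AlgSp.IsFiniteMor f' := by
  rw [AlgSpMor.AffineDescent.isFiniteMor_iff] at hf ⊢
  refine repWith_lift (P := @IsFinite) (fun sq hc hs hl h => ?_) hX' hY' hi hj hcart hft' hf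
  have := MorphismProperty.of_isPullback sq.flip hc
  have := MorphismProperty.of_isPullback sq.flip hs
  have := h
  have := (H54.ThickAffine.isIntegralHom_iff sq.w).1 inferInstance
  exact (IsFinite.iff_isIntegralHom_and_locallyOfFiniteType _).2 ⟨this, hl⟩

theorem isFiniteMor_baseChange (hcart : IsPullback i f f' j) (hf : AlgSp.IsFiniteMor f') :
    AlgSp.IsFiniteMor f := by
  rw [AlgSpMor.AffineDescent.isFiniteMor_iff] at hf ⊢
  exact repWith_baseChange hcart hf

theorem isProperMor_iff (hX : IsAlgSpace X) (hX' : IsAlgSpace X') (hY : IsAlgSpace Y)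
    (hY' : IsAlgSpace Y') (hi : IsThickMor i) (hj : IsThickMor j) (w : i ≫ f' = f ≫ j)
    (hft : LocP @LocallyOfFiniteType f) (hft' : LocP @LocallyOfFiniteType f') :
    AlgSp.IsProperMor f ↔ AlgSp.IsProperMor f' :=
  and_congr (AlgSpFormal.ThickDiag.isSeparatedMor_thick_iff hX hX' hY hY' hi hj w)
    (and_congr
      (and_congr (iff_of_true hft hft')
        (AlgSpFormal.ThickSquare.isQuasiCompactMor_iff hX hX' hY hY' hi hj w))
      (AlgSpFormal.ThickSquare.univSp_iff (fun h => IsClosedMap h)
        AlgSpFormal.ThickSquare.homeoInvariant_isClosedMap hY hY' hi hj w))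

theorem lft_of_finite (hf : AlgSp.IsFiniteMor f) : LocP @LocallyOfFiniteType f :=
  AlgSpMor.LocP.locP_of_repWith SourceDescent.Scheme.locallyOfFiniteType
    (repWith_mono (AlgSpMor.AffineDescent.isFiniteMor_iff.1 hf)
      fun _ _ g (_ : IsFinite g) => inferInstance)

theorem lft_of_closedImmersion (hf : RepWith @IsClosedImmersion f) :
    LocP @LocallyOfFiniteType f :=
  AlgSpMor.LocP.locP_of_repWith SourceDescent.Scheme.locallyOfFiniteType
    (repWith_mono hf fun _ _ g (_ : IsClosedImmersion g) => inferInstance)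

theorem lft_of_immersion (hf : RepWith @IsImmersion f) : LocP @LocallyOfFiniteType f :=
  AlgSpMor.LocP.locP_of_repWith SourceDescent.Scheme.locallyOfFiniteType
    (repWith_mono hf fun _ _ g (_ : IsImmersion g) => inferInstance)

end Groth.Agent.Lib.AffThick.CartProp
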