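import Groth.Agent.Lib.AffThick.CartProp
import Groth.Agent.Lib.AlgSpDecent.OpenScheme
import Groth.Agent.Lib.AlgSpFormal.Charts
import Groth.Prelude.Def_AlgSpMor5
import Mathlib.AlgebraicGeometry.Morphisms.FlatMono

/-!
# Isomorphisms, open immersions and finite locally free morphisms along thickenings
-/

set_option autoImplicit false
set_option linter.style.haveILetI false

universe u

open CategoryTheory CategoryTheory.Limits AlgebraicGeometry
open AlgSp Groth.Agent.Lib.AlgSpace

namespace Groth.Agent.Lib.AffThick.DeformProp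

variable {S : Scheme.{u}} {X X' Y Y' : Sp S} {i : X ⟶ X'} {j : Y ⟶ Y'} {f : X ⟶ Y} {f' : X' ⟶ Y'}

theorem isEtaleMor_of_repWith {F G : Sp S} {h : F ⟶ G} (hh : RepWith @IsOpenImmersion h) :
    IsEtaleMor h := fun _ _ hφ =>
  haveI : MorphismProperty.IsStableUnderComposition (@Etale : MorphismProperty Scheme.{u}) :=
    ⟨fun f g (_ : Etale f) (_ : Etale g) ↦ inferInstanceAs (Etale (f ≫ g))⟩
  repWith_comp hφ (repWith_mono hh fun _ _ g (_ : IsOpenImmersion g) => inferInstance)

theorem surjective_of_isIso {F G : Sp S} (h : F ⟶ G) [IsIso h] :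
    Function.Surjective (Points.map h) := fun x =>
  ⟨Points.map (inv h) x, by rw [← Points.map_comp, IsIso.inv_hom_id, Points.map_id]⟩

/-- Open immersions lift as soon as etaleness does. -/
theorem openImmersion_lift (hX' : IsAlgSpace X') (hY' : IsAlgSpace Y') (hi : IsThickMor i)
    (hj : IsThickMor j) (hcart : IsPullback i f f' j) (het : IsEtaleMor f → IsEtaleMor f')
    (hf : RepWith @IsOpenImmersion f) : RepWith @IsOpenImmersion f' := by
  have hl : LocP @Etale f' :=
    (AlgSpFormal.Charts.isEtaleMor_iff_locP hX' hY' f').1 (het (isEtaleMor_of_repWith hf))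
  have hlft : LocP @LocallyOfFiniteType f' := fun U V a b h ha hb w => by
    have : Etale h.left := hl a b h ha hb w
    infer_instance
  have himm : RepWith @IsImmersion f' := CartProp.immersion_lift hX' hY' hi hj hcart hlft
    (repWith_mono hf fun _ _ g (_ : IsOpenImmersion g) => inferInstance)
  have hr : Representable f' := himm.1
  have he := AlgSpMor.LocP.repWith_of_locP SourceDescent.Scheme.etale hY' hr hl
  refine repWith_of_exists fun T ξ ↦ ⟨hr.pullback ξ, hr.snd ξ, hr.fst ξ, hr.isPullback ξ, ?_⟩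
  have : IsImmersion (hr.snd ξ).left := repWith_property himm (hr.isPullback ξ)
  have : Etale (hr.snd ξ).left := repWith_property he (hr.isPullback ξ)
  exact IsOpenImmersion.of_flat_of_mono _

theorem openImmersion_iff (hX' : IsAlgSpace X') (hY' : IsAlgSpace Y') (hi : IsThickMor i)
    (hj : IsThickMor j) (hcart : IsPullback i f f' j) (het : IsEtaleMor f → IsEtaleMor f') :
    RepWith @IsOpenImmersion f ↔ RepWith @IsOpenImmersion f' :=
  ⟨openImmersion_lift hX' hY' hi hj hcart het, fun h => repWith_baseChange hcart h⟩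

theorem isIso_iff (hX' : IsAlgSpace X') (hY' : IsAlgSpace Y') (hi : IsThickMor i)
    (hj : IsThickMor j) (hcart : IsPullback i f f' j) (het : IsEtaleMor f → IsEtaleMor f') :
    IsIso f ↔ IsIso f' := by
  refine ⟨fun hf => ?_, fun _ => hcart.isIso_snd_of_isIso⟩
  have h := openImmersion_lift hX' hY' hi hj hcart het (repWith_of_isIso _ f)
  exact AlgSpDecent.OpenScheme.isIso_of_surjective h
    ((AlgSpFormal.ThickSquare.isSurjectiveMor_iff hi hj hcart.w).1 (surjective_of_isIso f))

/-- The square of diagonals of a morphism over a thickened base. -/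
theorem exists_diag_square {B B' : Sp S} {iB : B ⟶ B'} {g : Y ⟶ B} {g' : Y' ⟶ B'}
    (hcX : IsPullback i (f ≫ g) (f' ≫ g') iB) (hcart : IsPullback i f f' j) :
    ∃ k : pullback f f ⟶ pullback f' f',
      IsPullback k (pullback.fst f f ≫ f ≫ g) (pullback.fst f' f' ≫ f' ≫ g') iB ∧
      i ≫ pullback.diagonal f' = pullback.diagonal f ≫ k := by
  let k : pullback f f ⟶ pullback f' f' :=
    pullback.lift (pullback.fst f f ≫ i) (pullback.snd f f ≫ i)
      (by rw [Category.assoc, Category.assoc, hcart.w, pullback.condition_assoc])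
  have k₁ : k ≫ pullback.fst f' f' = pullback.fst f f ≫ i := pullback.lift_fst _ _ _
  have k₂ : k ≫ pullback.snd f' f' = pullback.snd f f ≫ i := pullback.lift_snd _ _ _
  have big : IsPullback (k ≫ pullback.snd f' f') (pullback.fst f f) f' (i ≫ f') := by
    rw [k₂, hcart.w]
    exact (IsPullback.of_hasPullback f f).flip.paste_horiz hcart
  have sqk : IsPullback k (pullback.fst f f) (pullback.fst f' f') i :=
    IsPullback.of_right big k₁ (IsPullback.of_hasPullback f' f').flip
  exact ⟨k, sqk.paste_vert hcX, by apply pullback.hom_ext <;> simp [k₁, k₂]⟩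

theorem isFinLocFreeMor_iff_props {F G : Sp S} {h : F ⟶ G} (hG : IsAlgSpace G) :
    IsFinLocFreeMor h ↔
      AlgSp.IsFiniteMor h ∧ LocP @Flat h ∧ LocP @LocallyOfFinitePresentation h := by
  rw [AlgSpMor.AffineDescent.isFiniteMor_iff]
  constructor
  · intro hh
    exact ⟨repWith_mono hh fun _ _ _ hg => hg.1,
      AlgSpMor.LocP.locP_of_repWith SourceDescent.Scheme.flat (repWith_mono hh fun _ _ _ hg => hg.2.1),
      AlgSpMor.LocP.locP_of_repWith SourceDescent.Scheme.locallyOfFinitePresentation
        (repWith_mono hh fun _ _ _ hg => hg.2.2)⟩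
  · rintro ⟨h₁, h₂, h₃⟩
    have hr : Representable h := h₁.1
    have e₂ := AlgSpMor.LocP.repWith_of_locP SourceDescent.Scheme.flat hG hr h₂
    have e₃ := AlgSpMor.LocP.repWith_of_locP SourceDescent.Scheme.locallyOfFinitePresentation hG hr h₃
    exact repWith_of_exists fun T ξ ↦ ⟨hr.pullback ξ, hr.snd ξ, hr.fst ξ, hr.isPullback ξ,
      repWith_property h₁ (hr.isPullback ξ), repWith_property e₂ (hr.isPullback ξ),
      repWith_property e₃ (hr.isPullback ξ)⟩

/-- The degree of a finite locally free morphism is detected on the thickened base. -/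
theorem finLocFreeOfDeg_iff (hj : IsThickMor j) (hcart : IsPullback i f f' j)
    (h : IsFinLocFreeMor f → IsFinLocFreeMor f') (d : ℕ) :
    IsFinLocFreeOfDegMor d f ↔ IsFinLocFreeOfDegMor d f' := by
  refine ⟨fun hf => ?_, fun hf => repWith_baseChange hcart hf⟩
  have h' : IsFinLocFreeMor f' := h (repWith_mono hf fun _ _ _ hg => hg.1)
  have hr : Representable f' := h'.1
  refine repWith_of_exists fun T ξ ↦ ⟨hr.pullback ξ, hr.snd ξ, hr.fst ξ, hr.isPullback ξ,
    repWith_property h' (hr.isPullback ξ), fun y => ?_⟩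
  obtain ⟨W₀, T₀, v, η, iW, g₀, a, sq, hc, hs, sq₀⟩ :=
    CartProp.exists_restrict hj hcart (hr.isPullback ξ)
  have hg : Mor2.IsFinLocFree (hr.snd ξ).left := repWith_property h' (hr.isPullback ξ)
  have := hg.1
  have := hg.2.1
  obtain ⟨y₀, rfl⟩ := v.left.surjective y
  rw [← Scheme.Hom.finrank_of_isPullback _ _ _ _ sq y₀]
  exact (repWith_property hf sq₀).2 y₀

end Groth.Agent.Lib.AffThick.DeformProp
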