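import Mathlib.RingTheory.Flat.Basic
import Mathlib.RingTheory.TensorProduct.Quotient
import Mathlib.RingTheory.TensorProduct.Maps

/-!
# Modules killed by an ideal after a base change known modulo the ideal

If `(B ⧸ J) ⊗ B₀ ≅ (B ⧸ J) ⊗ S` and `N ⊆ B ⧸ L` is killed by `J`, then `N ⊗ B₀` embeds into `S ⧸ L S`
with image the `S`-span of `N`.
-/

set_option autoImplicit false

universe u

open TensorProduct

namespace Groth.Agent.Lib.AffThick.Embed

theorem exists_embed {B : Type u} [CommRing B] {A₀ : Type u} [CommRing A₀]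
    {B₀ : Type u} [CommRing B₀] [Algebra A₀ B₀]
    {S : Type u} [CommRing S] [Algebra B S] [Module.Flat B S]
    (J L : Ideal B) [Algebra A₀ (B ⧸ J)]
    {N : Type u} [AddCommGroup N] [Module B N] [Module (B ⧸ J) N] [IsScalarTower B (B ⧸ J) N]
    [Module A₀ N] [IsScalarTower A₀ (B ⧸ J) N]
    (j : N →ₗ[B] B ⧸ L) (hj : Function.Injective j)
    (θ : (B ⧸ J) ⊗[A₀] B₀ ≃ₐ[B ⧸ J] (B ⧸ J) ⊗[B] S) :
    ∃ e : N ⊗[A₀] B₀ →+ S ⧸ L.map (algebraMap B S),
      Function.Injective e ∧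
      (∀ (n : N) (x : B₀) (d : S) (b : B), θ (1 ⊗ₜ x) = 1 ⊗ₜ d → j n = Ideal.Quotient.mk L b →
        e (n ⊗ₜ x) = Ideal.Quotient.mk _ (algebraMap B S b * d)) ∧
      ∀ (n : N) (d : S) (b : B), j n = Ideal.Quotient.mk L b →
        ∃ y, e y = Ideal.Quotient.mk _ (algebraMap B S b * d) := by
  let e0 := (TensorProduct.AlgebraTensorModule.cancelBaseChange A₀ (B ⧸ J) (B ⧸ J) N B₀).symm
  let e1 : N ⊗[B ⧸ J] ((B ⧸ J) ⊗[A₀] B₀) ≃ₗ[B ⧸ J] N ⊗[B ⧸ J] ((B ⧸ J) ⊗[B] S) :=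
    TensorProduct.congr (LinearEquiv.refl _ _) θ.toLinearEquiv
  let e2 := TensorProduct.AlgebraTensorModule.cancelBaseChange B (B ⧸ J) (B ⧸ J) N S
  let q := (Algebra.TensorProduct.quotIdealMapEquivQuotTensor S L).symm
  let e : N ⊗[A₀] B₀ →+ S ⧸ L.map (algebraMap B S) :=
    (q.toRingEquiv.toAddEquiv.toAddMonoidHom.comp (j.rTensor S).toAddMonoidHom).comp
      ((e0.trans (e1.trans e2)).toAddEquiv.toAddMonoidHom)
  have hq : ∀ (b : B) (d : S), q (Ideal.Quotient.mk L b ⊗ₜ d) =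
      Ideal.Quotient.mk _ (algebraMap B S b * d) := by
    intro b d
    refine q.symm.injective ?_
    rw [q.symm_apply_apply]
    show _ = Algebra.TensorProduct.quotIdealMapEquivQuotTensor S L _
    rw [Algebra.TensorProduct.quotIdealMapEquivQuotTensor_mk, ← Algebra.smul_def,
      TensorProduct.tmul_smul, TensorProduct.smul_tmul']
    congr 1
    exact (Algebra.algebraMap_eq_smul_one b)
  refine ⟨e, ?_, ?_, ?_⟩
  · exact (q.injective.comp (Module.Flat.rTensor_preserves_injective_linearMap _ hj)).comp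
      (e0.trans (e1.trans e2)).injective
  · intro n x d b hx hn
    show q (j.rTensor S (e2 (e1 (e0 (n ⊗ₜ x))))) = _
    rw [show e0 (n ⊗ₜ x) = n ⊗ₜ ((1 : B ⧸ J) ⊗ₜ x) from by simp [e0]]
    rw [show e1 (n ⊗ₜ ((1 : B ⧸ J) ⊗ₜ x)) = n ⊗ₜ (θ (1 ⊗ₜ x)) from rfl, hx]
    simp [e2, hn, hq]
  · intro n d b hn
    refine ⟨(e0.trans (e1.trans e2)).symm (n ⊗ₜ d), ?_⟩
    show q (j.rTensor S ((e0.trans (e1.trans e2)) _)) = _
    rw [LinearEquiv.apply_symm_apply]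
    simp [hn, hq]

end Groth.Agent.Lib.AffThick.Embed
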