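import Groth.Agent.Lib.AffThick.Mor
import Groth.Agent.Lib.AlgSpace.Quot
import Groth.Agent.Lib.AlgSpFormal.Charts
import Groth.Agent.H95.TopInv.Main
import Groth.Prelude.Def_AlgSpOX2

/-!
# The small etale site of a thickening

A scheme etale over the thinner space lifts: the lift is the quotient of a lifted chart by the
relation "same point of the thickened space, same restriction to the thinner one".
-/

set_option autoImplicit false
set_option linter.style.haveILetI false

universe u

open CategoryTheory CategoryTheory.Limits AlgebraicGeometry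
open AlgSp Groth.Agent.Lib.AlgSpace
open Groth.Agent.H95

namespace Groth.Agent.Lib.AffThick.EtSite

variable {S : Scheme.{u}} {X X' : Sp S} {i : X ⟶ X'}

section Relation

variable {U₀ W₀ W : Over S} {η : (yon S).obj W₀ ⟶ X} {q : (yon S).obj W ⟶ X'} {jW : W₀ ⟶ W}
  {π : W₀ ⟶ U₀} {a₀ : (yon S).obj U₀ ⟶ X}

/-- The relation on a lifted chart: same point of `X'` and same restriction to `U₀`. -/
def Rel (q : (yon S).obj W ⟶ X') (jW : W₀ ⟶ W) (π : W₀ ⟶ U₀) {T : Over S}
    (w₁ w₂ : T ⟶ W) : Prop :=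
  (yon S).map w₁ ≫ q = (yon S).map w₂ ≫ q ∧
    ∀ ⦃T' : Over S⦄ (s : T' ⟶ T) (x₁ x₂ : T' ⟶ W₀),
      x₁ ≫ jW = s ≫ w₁ → x₂ ≫ jW = s ≫ w₂ → x₁ ≫ π = x₂ ≫ π

variable [Mono i] (sq : IsPullback η ((yon S).map jW) i q)
include sq

theorem eq_of_comp_jW {T : Over S} {x y : T ⟶ W₀} (h : x ≫ jW = y ≫ jW) : x = y := by
  refine (yon S).map_injective (sq.hom_ext ((cancel_mono i).1 ?_)
    (by rw [← Functor.map_comp, ← Functor.map_comp, h]))
  rw [Category.assoc, Category.assoc, sq.w, ← Functor.map_comp_assoc, h, Functor.map_comp_assoc]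

theorem rel_equivalence (T : Over S) :
    Equivalence (fun w₁ w₂ : T ⟶ W => Rel q jW π w₁ w₂) := by
  refine ⟨fun w => ⟨rfl, fun T' s x₁ x₂ h₁ h₂ => ?_⟩,
    fun h => ⟨h.1.symm, fun T' s x₁ x₂ h₁ h₂ => (h.2 s x₂ x₁ h₂ h₁).symm⟩,
    fun {w₁ w₂ w₃} h h' => ⟨h.1.trans h'.1, fun T' s x₁ x₃ h₁ h₃ => ?_⟩⟩
  · rw [eq_of_comp_jW sq (h₁.trans h₂.symm)]
  · obtain ⟨x₂, hx₂⟩ := (yon S).map_surjective (sq.lift ((yon S).map x₁ ≫ η) ((yon S).map (s ≫ w₂))
      (by rw [Category.assoc, sq.w, ← Functor.map_comp_assoc, h₁, Functor.map_comp_assoc,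
        Functor.map_comp_assoc, h.1]))
    have h₂ : x₂ ≫ jW = s ≫ w₂ :=
      (yon S).map_injective (by rw [Functor.map_comp, hx₂, sq.lift_snd])
    exact (h.2 s x₁ x₂ h₁ h₂).trans (h'.2 s x₂ x₃ h₂ h₃)

variable (hη : η = (yon S).map π ≫ a₀)
include hη

theorem exists_relation (hX : IsAlgSpace X) (hX' : IsAlgSpace X') (hi : IsThickMor i)
    (ha₀ : RepWith @Etale a₀) (hq : RepWith @Etale q) :
    ∃ (R : Over S) (s t : R ⟶ W), IsEtaleEqvRel s t ∧
      ∀ (T : Over S) (w₁ w₂ : T ⟶ W),
        Rel q jW π w₁ w₂ ↔ ∃ r : T ⟶ R, r ≫ t = w₁ ∧ r ≫ s = w₂ := by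
  obtain ⟨Q, p₁, p₂, sqQ⟩ := exists_isPullback_yon hX'.diag q q
  have hp₁ : Etale p₁.left := repWith_property hq sqQ.flip
  have hp₂ : Etale p₂.left := repWith_property hq sqQ
  have hjW : thick jW.left := hi.2 q _ _ sq
  -- the restriction of `Q`
  let e₁ := pullback.snd p₁ jW
  let iQ := pullback.fst p₁ jW
  have sqQ₀ := IsPullback.of_hasPullback p₁ jW
  have hiQ : thick iQ.left :=
    MorphismProperty.of_isPullback (sqQ₀.flip.map (Over.forget S)) hjW
  obtain ⟨e₂, he₂⟩ := (yon S).map_surjective (sq.lift ((yon S).map e₁ ≫ η) ((yon S).map (iQ ≫ p₂))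
    (by rw [Category.assoc, sq.w, ← Functor.map_comp_assoc, ← sqQ₀.w, Functor.map_comp_assoc,
      sqQ.w, Functor.map_comp_assoc]))
  have he₂' : e₂ ≫ jW = iQ ≫ p₂ :=
    (yon S).map_injective (by rw [Functor.map_comp, he₂, sq.lift_snd])
  have he₂η : (yon S).map e₂ ≫ η = (yon S).map e₁ ≫ η := by rw [he₂, sq.lift_fst]
  -- the equalizer of the two restrictions to `U₀` is open
  obtain ⟨P, r₁, r₂, sqP⟩ := exists_isPullback_yon hX.diag a₀ a₀
  have hr₁ : Etale r₁.left := repWith_property ha₀ sqP.flip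
  obtain ⟨m, hm⟩ := (yon S).map_surjective (sqP.lift ((yon S).map (e₁ ≫ π)) ((yon S).map (e₂ ≫ π))
    (by rw [Functor.map_comp, Functor.map_comp, Category.assoc, Category.assoc, ← hη, he₂η]))
  have hm₁ : m ≫ r₁ = e₁ ≫ π := (yon S).map_injective (by rw [Functor.map_comp, hm, sqP.lift_fst])
  have hm₂ : m ≫ r₂ = e₂ ≫ π := (yon S).map_injective (by rw [Functor.map_comp, hm, sqP.lift_snd])
  obtain ⟨d, hd⟩ := (yon S).map_surjective (sqP.lift (𝟙 _) (𝟙 _) rfl)
  have hd₁ : d ≫ r₁ = 𝟙 _ :=
    (yon S).map_injective (by rw [Functor.map_comp, hd, sqP.lift_fst, CategoryTheory.Functor.map_id])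
  have hd₂ : d ≫ r₂ = 𝟙 _ :=
    (yon S).map_injective (by rw [Functor.map_comp, hd, sqP.lift_snd, CategoryTheory.Functor.map_id])
  have hdl : d.left ≫ r₁.left = 𝟙 _ := congrArg (fun k => k.left) hd₁
  haveI : Etale (d.left ≫ r₁.left) := by rw [hdl]; infer_instance
  haveI : Etale d.left := Etale.of_comp d.left r₁.left
  haveI : IsSplitMono d.left := IsSplitMono.mk' ⟨r₁.left, hdl⟩
  haveI : IsOpenImmersion d.left := IsOpenImmersion.of_flat_of_mono d.left
  have sqE := (IsPullback.of_hasPullback m d).map (Over.forget S)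
  have hE : IsOpenImmersion (pullback.fst m d).left :=
    MorphismProperty.of_isPullback (P := @IsOpenImmersion) sqE.flip (‹IsOpenImmersion d.left› :)
  -- the open of `Q`
  let O : Q.left.Opens := ⟨iQ.left '' Set.range (pullback.fst m d).left,
    (AlgSpFormal.ThickTopo.isHomeomorph_of_thick hiQ).isOpenMap _
      (pullback.fst m d).left.isOpenEmbedding.isOpen_range⟩
  let R : Over S := Over.mk (O.ι ≫ Q.hom)
  let o : R ⟶ Q := Over.homMk O.ι rfl
  have hoim : IsOpenImmersion o.left := inferInstanceAs (IsOpenImmersion O.ι)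
  haveI : Mono o := (Over.forget S).mono_of_mono_map (inferInstanceAs (Mono o.left))
  -- a map lands in the open iff the restrictions agree
  have hiff : ∀ (T : Over S) (w₁ w₂ : T ⟶ W),
      Rel q jW π w₁ w₂ ↔ ∃ r : T ⟶ R, r ≫ (o ≫ p₁) = w₁ ∧ r ≫ (o ≫ p₂) = w₂ := by
    intro T w₁ w₂
    constructor
    · rintro ⟨hw, hrel⟩
      obtain ⟨l, hl⟩ := (yon S).map_surjective
        (sqQ.lift ((yon S).map w₁) ((yon S).map w₂) hw)
      have hl₁ : l ≫ p₁ = w₁ := (yon S).map_injective (by rw [Functor.map_comp, hl, sqQ.lift_fst])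
      have hl₂ : l ≫ p₂ = w₂ := (yon S).map_injective (by rw [Functor.map_comp, hl, sqQ.lift_snd])
      let l₀ := pullback.snd l iQ
      let s := pullback.fst l iQ
      have hls : l₀ ≫ iQ = s ≫ l := pullback.condition.symm
      have heq := hrel s (l₀ ≫ e₁) (l₀ ≫ e₂)
        (by rw [Category.assoc, ← sqQ₀.w, reassoc_of% hls, hl₁])
        (by rw [Category.assoc, he₂', reassoc_of% hls, hl₂])
      have hlm : l₀ ≫ m = (l₀ ≫ e₁ ≫ π) ≫ d := by
        refine (yon S).map_injective (sqP.hom_ext ?_ ?_)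
        · rw [← Functor.map_comp, ← Functor.map_comp, Category.assoc, Category.assoc, hm₁,
            Category.assoc, hd₁, Category.comp_id]
        · rw [← Functor.map_comp, ← Functor.map_comp, Category.assoc, Category.assoc, hm₂,
            Category.assoc, hd₂, Category.comp_id]
          exact congrArg (yon S).map (by simpa only [Category.assoc] using heq.symm)
      let k := pullback.lift l₀ (l₀ ≫ e₁ ≫ π) hlm
      have hk : k ≫ pullback.fst m d = l₀ := pullback.lift_fst _ _ _
      have hss : Surjective s.left := MorphismProperty.of_isPullback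
        ((IsPullback.of_hasPullback l iQ).map (Over.forget S)).flip hiQ.2
      have hrange : Set.range l.left ⊆ Set.range O.ι := by
        rw [Scheme.Opens.range_ι]
        rintro _ ⟨t, rfl⟩
        obtain ⟨z, rfl⟩ := s.left.surjective t
        refine ⟨l₀.left z, ⟨k.left z, ?_⟩, ?_⟩
        · rw [← Scheme.Hom.comp_apply, ← Over.comp_left, hk]
        · rw [← Scheme.Hom.comp_apply, ← Over.comp_left, hls, Over.comp_left, Scheme.Hom.comp_apply]
      let r : T ⟶ R := Over.homMk (IsOpenImmersion.lift O.ι l.left hrange) (by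
        change _ ≫ O.ι ≫ Q.hom = T.hom
        rw [IsOpenImmersion.lift_fac_assoc, Over.w])
      have hr : r ≫ o = l := Over.OverMorphism.ext (IsOpenImmersion.lift_fac _ _ _)
      exact ⟨r, by rw [reassoc_of% hr, hl₁], by rw [reassoc_of% hr, hl₂]⟩
    · rintro ⟨r, hr₁, hr₂⟩
      refine ⟨?_, fun T' s x₁ x₂ h₁ h₂ => ?_⟩
      · rw [← hr₁, ← hr₂]
        simp only [Functor.map_comp, Category.assoc, sqQ.w]
      let l₀ : T' ⟶ pullback p₁ jW := pullback.lift (s ≫ r ≫ o) x₁
        (by rw [h₁, ← hr₁]; simp only [Category.assoc])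
      have hl₁ : l₀ ≫ e₁ = x₁ := pullback.lift_snd _ _ _
      have hlQ : l₀ ≫ iQ = s ≫ r ≫ o := pullback.lift_fst _ _ _
      have hl₂ : l₀ ≫ e₂ = x₂ := by
        refine eq_of_comp_jW sq ?_
        rw [Category.assoc, he₂', reassoc_of% hlQ, h₂, ← hr₂]
      have hrange : Set.range l₀.left ⊆ Set.range (pullback.fst m d).left := by
        rintro _ ⟨z, rfl⟩
        obtain ⟨a, ha, hae⟩ : iQ.left (l₀.left z) ∈ O := by
          rw [← Scheme.Hom.comp_apply, ← Over.comp_left, hlQ]
          simp only [Over.comp_left, Scheme.Hom.comp_apply]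
          exact (r.left (s.left z)).2
        rwa [← (AlgSpFormal.ThickTopo.isHomeomorph_of_thick hiQ).bijective.1 hae]
      let k := IsOpenImmersion.lift (pullback.fst m d).left l₀.left hrange
      have hk : k ≫ (pullback.fst m d).left = l₀.left := IsOpenImmersion.lift_fac _ _ _
      apply Over.OverMorphism.ext
      rw [← hl₁, ← hl₂, Category.assoc, Category.assoc, ← hm₁, ← hm₂]
      simp only [Over.comp_left, ← hk, Category.assoc]
      have hc : (pullback.fst m d).left ≫ m.left = (pullback.snd m d).left ≫ d.left := sqE.w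
      rw [reassoc_of% hc, reassoc_of% hc, hdl,
        show d.left ≫ r₂.left = 𝟙 _ from congrArg (fun k => k.left) hd₂]
  refine ⟨R, o ≫ p₂, o ≫ p₁, ⟨⟨fun T r r' h₁ h₂ => ?_, fun T => ?_⟩, ?_, ?_⟩,
    fun T w₁ w₂ => hiff T w₁ w₂⟩
  · refine (cancel_mono o).1 ((yon S).map_injective (sqQ.hom_ext ?_ ?_))
    · simp only [← Functor.map_comp, Category.assoc]
      rw [h₁]
    · simp only [← Functor.map_comp, Category.assoc]
      rw [h₂]
  · convert rel_equivalence (π := π) sq T using 1
    funext w₁ w₂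
    exact propext (hiff T w₁ w₂).symm
  · rw [Over.comp_left]; infer_instance
  · rw [Over.comp_left]; infer_instance

end Relation

/-- A scheme etale over the thinner space is the restriction of one over the thickened space. -/
theorem exists_lift (hX : IsAlgSpace X) (hX' : IsAlgSpace X') (hi : IsThickMor i) {U₀ : Over S}
    (a₀ : (yon S).obj U₀ ⟶ X) (ha₀ : RepWith @Etale a₀) :
    ∃ (U : Over S) (a : (yon S).obj U ⟶ X') (jU : U₀ ⟶ U),
      RepWith @Etale a ∧ IsPullback a₀ ((yon S).map jU) i a := by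
  haveI := AlgSpFormal.ThickTopo.mono_of_thick hi
  obtain ⟨V, b, hb, hbs⟩ := hX'.atlas
  obtain ⟨V₀, jV, c, sqV, hjV⟩ := repWith_exists hi b
  obtain ⟨W₀, π, g₀, sq₀⟩ := exists_isPullback_yon hX.diag a₀ c
  have hπ : Etale π.left := repWith_property (repWith_baseChange sqV.flip hb) sq₀.flip
  have hπs : Surjective π.left := repWith_property (repWith_baseChange sqV.flip hbs) sq₀.flip
  have hg₀ : Etale g₀.left := repWith_property ha₀ sq₀
  haveI := hjV.1
  haveI := hjV.2
  obtain ⟨Wl, gWl, jWl, hgW, hsqW⟩ := TopInv.exists_lift jV.left g₀.left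
  let W : Over S := Over.mk (gWl ≫ V.hom)
  let gW : W ⟶ V := Over.homMk gWl rfl
  let jW : W₀ ⟶ W := Over.homMk jWl (by
    change jWl ≫ gWl ≫ V.hom = W₀.hom
    rw [reassoc_of% hsqW.w, Over.w, Over.w])
  have sqW : IsPullback g₀ jW jV gW :=
    IsPullback.of_map_of_faithful (Over.forget S) hsqW.flip
  let q := (yon S).map gW ≫ b
  have hgWe : Etale gW.left := hgW
  have hq : RepWith @Etale q := AlgSpMor.LocP.repWith_etale_comp gW hb
  have sq : IsPullback ((yon S).map g₀ ≫ c) ((yon S).map jW) i q :=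
    ((isPullback_yon sqW).paste_horiz sqV)
  obtain ⟨R, s, t, hR, hrel⟩ :=
    exists_relation sq (π := π) (a₀ := a₀) sq₀.w.symm hX hX' hi ha₀ hq
  -- the quotient
  let U' := QuotSh.quot Scheme.fppfPrecoverage s t
  have hU' : IsAlgSpace U' := isAlgSpace_quot hR
  have pres := isPresentation_quot hR
  haveI := isLocallySurjective_quotMap s t
  have hker : ∀ {T : Over S} (w₁ w₂ : T ⟶ W),
      (yon S).map w₁ ≫ quotMap s t = (yon S).map w₂ ≫ quotMap s t ↔ Rel q jW π w₁ w₂ := by
    intro T w₁ w₂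
    rw [hrel]
    constructor
    · intro h
      obtain ⟨r, hr⟩ := (yon S).map_surjective (pres.isPullback.lift _ _ h)
      exact ⟨r, (yon S).map_injective (by rw [Functor.map_comp, hr, pres.isPullback.lift_fst]),
        (yon S).map_injective (by rw [Functor.map_comp, hr, pres.isPullback.lift_snd])⟩
    · rintro ⟨r, rfl, rfl⟩
      simp only [Functor.map_comp, Category.assoc, pres.isPullback.w]
  have hts : (yon S).map t ≫ q = (yon S).map s ≫ q :=
    ((hrel R t s).2 ⟨𝟙 R, Category.id_comp _, Category.id_comp _⟩).1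
  obtain ⟨f', hf'⟩ := exists_desc (quotMap s t) pres.isPullback q hts
  have hf'e : IsEtaleMor f' := (AlgSpFormal.Charts.isEtaleMor_iff_locP hU' hX' f').2
    (AlgSpMor.LocP.locP_of_precomp SourceDescent.Scheme.etale hU' hX' pres.etale pres.surjective
      (by rw [hf']; exact AlgSpMor.LocP.locP_of_repWith SourceDescent.Scheme.etale hq))
  -- its restriction is `U₀`
  have sqZ := IsPullback.of_hasPullback i f'
  have hk : IsThickMor (pullback.snd i f') := repWith_baseChange sqZ hi
  let z : (yon S).obj W₀ ⟶ pullback i f' := pullback.lift ((yon S).map g₀ ≫ c)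
    ((yon S).map jW ≫ quotMap s t) (by rw [sq.w, Category.assoc, hf'])
  have sqz : IsPullback z ((yon S).map jW) (pullback.snd i f') (quotMap s t) := by
    refine IsPullback.of_right ?_ (pullback.lift_snd _ _ _) sqZ
    rw [pullback.lift_fst, hf']
    exact sq
  haveI : Sheaf.IsLocallySurjective z :=
    isLocallySurjective_of_etale (repWith_baseChange sqz.flip pres.etale)
      (repWith_baseChange sqz.flip pres.surjective)
  haveI : Sheaf.IsLocallySurjective ((yon S).map π) :=
    isLocallySurjective_of_etale ((AlgSp.repWith_yon_map_iff _ _).2 hπ)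
      ((AlgSp.repWith_yon_map_iff _ _).2 hπs)
  have key : ∀ {T : Over S} (x₁ x₂ : T ⟶ W₀),
      (yon S).map x₁ ≫ z = (yon S).map x₂ ≫ z ↔ x₁ ≫ π = x₂ ≫ π := by
    intro T x₁ x₂
    constructor
    · intro h
      have h' := congrArg (fun m => m ≫ pullback.snd i f') h
      simp only [z, Category.assoc, pullback.lift_snd, ← Functor.map_comp_assoc] at h'
      exact ((hker _ _).1 h').2 (𝟙 T) x₁ x₂ (Category.id_comp _).symm (Category.id_comp _).symm
    · intro h
      have hη : (yon S).map x₁ ≫ (yon S).map g₀ ≫ c = (yon S).map x₂ ≫ (yon S).map g₀ ≫ c := by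
        rw [← sq₀.w, ← Functor.map_comp_assoc, h, Functor.map_comp_assoc]
      refine pullback.hom_ext ?_ ?_
      · simpa only [z, Category.assoc, pullback.lift_fst] using hη
      · simp only [z, Category.assoc, pullback.lift_snd, ← Functor.map_comp_assoc]
        refine (hker _ _).2 ⟨?_, fun T' u y₁ y₂ h₁ h₂ => ?_⟩
        · rw [Functor.map_comp_assoc, Functor.map_comp_assoc, ← sq.w]
          simp only [Category.assoc]
          rw [reassoc_of% hη]
        · rw [eq_of_comp_jW sq (y := u ≫ x₁) (h₁.trans (Category.assoc _ _ _).symm),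
            eq_of_comp_jW sq (y := u ≫ x₂) (h₂.trans (Category.assoc _ _ _).symm),
            Category.assoc, h, ← Category.assoc]
  obtain ⟨α, hα⟩ := exists_desc z (IsPullback.of_hasPullback z z) ((yon S).map π)
    (hom_ext fun T a => by
      obtain ⟨x₁, hx₁⟩ := (yon S).map_surjective (a ≫ pullback.fst z z)
      obtain ⟨x₂, hx₂⟩ := (yon S).map_surjective (a ≫ pullback.snd z z)
      rw [← Category.assoc, ← hx₁, ← Category.assoc, ← hx₂, ← Functor.map_comp, ← Functor.map_comp,
        (key x₁ x₂).1 (by rw [hx₁, hx₂, Category.assoc, Category.assoc, pullback.condition])])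
  obtain ⟨β, hβ⟩ := exists_desc ((yon S).map π) (isPullback_yon (IsPullback.of_hasPullback π π)) z
    ((key _ _).2 pullback.condition)
  haveI := (Sheaf.isLocallySurjective_iff_epi' (Type (u + 1)) z).1 inferInstance
  haveI := (Sheaf.isLocallySurjective_iff_epi' (Type (u + 1)) ((yon S).map π)).1 inferInstance
  let e : (yon S).obj U₀ ≅ pullback i f' := ⟨β, α,
    by rw [← cancel_epi ((yon S).map π), reassoc_of% hβ, hα, Category.comp_id],
    by rw [← cancel_epi z, reassoc_of% hα, hβ, Category.comp_id]⟩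
  have he : e.hom ≫ pullback.fst i f' = a₀ := by
    rw [← cancel_epi ((yon S).map π), reassoc_of% hβ, pullback.lift_fst, sq₀.w]
  obtain ⟨U, ⟨eU⟩⟩ := exists_scheme hU' hk e
  obtain ⟨jU, hjU⟩ := (yon S).map_surjective (e.hom ≫ pullback.snd i f' ≫ eU.inv)
  refine ⟨U, eU.hom ≫ f', jU, ?_, ?_⟩
  · refine AlgSpMor.LocP.repWith_of_locP SourceDescent.Scheme.etale hX'
      (representable_from_yon hX'.diag _) ?_
    exact (AlgSpFormal.Charts.isEtaleMor_iff_locP (IsAlgSpace.yon_obj U) hX' _).1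
      fun T φ hφ => by
        rw [← Category.assoc]
        exact hf'e (φ ≫ eU.hom) ((repWith_comp_iso_iff @Etale φ eU.hom).2 hφ)
  · rw [hjU]
    exact sqZ.of_iso e.symm (Iso.refl _) eU.symm (Iso.refl _) (by simp [← he]) (by simp)
      (by simp) (by simp)

end Groth.Agent.Lib.AffThick.EtSite
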