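import Mathlib.RingTheory.Flat.FaithfullyFlat.Basic
import Mathlib.RingTheory.Flat.FaithfullyFlat.Algebra
import Mathlib.RingTheory.TensorProduct.Basic

/-!
# Vanishing of the first Amitsur cohomology with values in a twisted module

For a faithfully flat `A`-algebra `B` and an `A`-linear map `s : N → N ⊗ B`, every cocycle
`x : N ⊗ B` is a coboundary `s e - e ⊗ 1`. No condition on `s` is needed.
-/

set_option autoImplicit false

universe u v w

open TensorProduct

namespace Groth.Agent.Lib.AffThick.Homotopy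

variable {A : Type u} [CommRing A] {B : Type v} [CommRing B] [Algebra A B]
  {N : Type w} [AddCommGroup N] [Module A N]

/-- `n ↦ s n - n ⊗ 1`. -/
noncomputable def d0 (s : N →ₗ[A] N ⊗[A] B) : N →ₗ[A] N ⊗[A] B :=
  s - (TensorProduct.mk A N B).flip 1

@[simp] theorem d0_apply (s : N →ₗ[A] N ⊗[A] B) (n : N) : d0 s n = s n - n ⊗ₜ 1 := rfl

/-- `n ⊗ b ↦ s n ⊗ b - n ⊗ (1 ⊗ b) + n ⊗ (b ⊗ 1)`. -/
noncomputable def d1 (s : N →ₗ[A] N ⊗[A] B) : N ⊗[A] B →ₗ[A] N ⊗[A] (B ⊗[A] B) :=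
  (TensorProduct.assoc A N B B).toLinearMap ∘ₗ s.rTensor B
    - (TensorProduct.mk A B B 1).lTensor N + ((TensorProduct.mk A B B).flip 1).lTensor N

@[simp] theorem d1_tmul (s : N →ₗ[A] N ⊗[A] B) (n : N) (b : B) :
    d1 s (n ⊗ₜ b) = TensorProduct.assoc A N B B (s n ⊗ₜ b) - n ⊗ₜ (1 ⊗ₜ b) + n ⊗ₜ (b ⊗ₜ 1) := rfl

/-- The homotopy in degree one. -/
noncomputable def h1 : (N ⊗[A] B) ⊗[A] B →ₗ[A] N ⊗[A] B :=
  (LinearMap.mul' A B).lTensor N ∘ₗ (TensorProduct.assoc A N B B).toLinearMap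

/-- The homotopy in degree two. -/
noncomputable def h2 : (N ⊗[A] (B ⊗[A] B)) ⊗[A] B →ₗ[A] (N ⊗[A] B) ⊗[A] B :=
  (TensorProduct.assoc A N B B).symm.toLinearMap ∘ₗ
    ((LinearMap.mul' A B).lTensor B ∘ₗ (TensorProduct.assoc A B B B).toLinearMap).lTensor N ∘ₗ
    (TensorProduct.assoc A N (B ⊗[A] B) B).toLinearMap

theorem h2_assoc_tmul (y : N ⊗[A] B) (b c : B) :
    h2 (TensorProduct.assoc A N B B (y ⊗ₜ b) ⊗ₜ c) = y ⊗ₜ (b * c) := by
  induction y using TensorProduct.induction_on with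
  | zero => simp
  | tmul n b' => simp [h2]
  | add y z hy hz => simp only [add_tmul, map_add, hy, hz]

theorem homotopy (s : N →ₗ[A] N ⊗[A] B) :
    h2 ∘ₗ (d1 s).rTensor B - (d0 s).rTensor B ∘ₗ h1 = LinearMap.id := by
  refine TensorProduct.ext' fun x c => ?_
  induction x using TensorProduct.induction_on with
  | zero => simp
  | add y z hy hz => simp only [add_tmul, map_add, hy, hz]
  | tmul n b =>
    simp only [LinearMap.sub_apply, LinearMap.comp_apply, LinearMap.rTensor_tmul, d1_tmul, add_tmul,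
      sub_tmul, map_add, map_sub, h2_assoc_tmul, LinearMap.id_apply]
    simp [h2, h1, sub_tmul]

/-- Cocycles are coboundaries. -/
theorem exists_of_d1_eq_zero [Module.FaithfullyFlat A B] (s : N →ₗ[A] N ⊗[A] B) {x : N ⊗[A] B}
    (hx : d1 s x = 0) : ∃ e : N, s e - e ⊗ₜ 1 = x := by
  let K := LinearMap.ker (d1 s)
  let φ : K →ₗ[A] (N ⊗[A] B) ⧸ LinearMap.range (d0 s) :=
    (LinearMap.range (d0 s)).mkQ ∘ₗ K.subtype
  have hφ : φ.rTensor B = 0 := by
    refine LinearMap.ext fun z => ?_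
    have hd : (d1 s).rTensor B (K.subtype.rTensor B z) = 0 := by
      rw [← LinearMap.comp_apply, ← LinearMap.rTensor_comp,
        show d1 s ∘ₗ K.subtype = 0 from LinearMap.ext fun k => k.2]
      simp
    have hh := LinearMap.congr_fun (homotopy s) (K.subtype.rTensor B z)
    simp only [LinearMap.sub_apply, LinearMap.comp_apply, hd, map_zero, zero_sub,
      LinearMap.id_apply] at hh
    rw [LinearMap.rTensor_comp, LinearMap.comp_apply, ← hh, map_neg, ← LinearMap.comp_apply,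
      ← LinearMap.rTensor_comp,
      show (LinearMap.range (d0 s)).mkQ ∘ₗ d0 s = 0 from LinearMap.range_mkQ_comp _]
    simp
  have : φ = 0 := (Module.FaithfullyFlat.zero_iff_rTensor_zero A B φ).2 hφ
  obtain ⟨e, he⟩ := (Submodule.Quotient.mk_eq_zero _).1 (LinearMap.congr_fun this ⟨x, hx⟩)
  exact ⟨e, he⟩

end Groth.Agent.Lib.AffThick.Homotopy
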