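import Groth.Agent.Lib.AffThick.Push
import Mathlib.RingTheory.Smooth.NoetherianDescent
import Mathlib.RingTheory.Flat.FaithfullyFlat.Algebra
import Mathlib.RingTheory.Spectrum.Prime.Chevalley
import Mathlib.RingTheory.Smooth.Flat
import Mathlib.RingTheory.Polynomial.Basic

/-!
# Models of faithfully flat etale algebras over finitely generated rings
-/

set_option autoImplicit false
set_option linter.style.haveILetI false

universe u

open TensorProduct

namespace Groth.Agent.Lib.AffThick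

/-- Base change makes a flat algebra faithfully flat as soon as its image covers. -/
theorem faithfullyFlat_baseChange {A₀ A₁ B₀ : Type u} [CommRing A₀] [CommRing A₁] [CommRing B₀]
    [Algebra A₀ A₁] [Algebra A₀ B₀] [Module.Flat A₀ B₀] {I₀ : Ideal A₀}
    (hI : (PrimeSpectrum.zeroLocus (I₀ : Set A₀))ᶜ =
      Set.range (PrimeSpectrum.comap (algebraMap A₀ B₀)))
    (htop₁ : I₀.map (algebraMap A₀ A₁) = ⊤) : Module.FaithfullyFlat A₁ (A₁ ⊗[A₀] B₀) := by
  refine Module.FaithfullyFlat.of_comap_surjective fun q => ?_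
  have hmem : PrimeSpectrum.comap (algebraMap A₀ A₁) q ∈
      Set.range (PrimeSpectrum.comap (algebraMap A₀ B₀)) := by
    rw [← hI, Set.mem_compl_iff, PrimeSpectrum.mem_zeroLocus]
    intro hh
    have := Ideal.map_mono (f := algebraMap A₀ A₁) (show I₀ ≤ q.asIdeal.comap (algebraMap A₀ A₁) from hh)
    rw [htop₁] at this
    exact q.isPrime.ne_top (eq_top_iff.2 (this.trans Ideal.map_comap_le))
  obtain ⟨r, hr⟩ := hmem
  obtain ⟨Ω, _, i, j, hij⟩ := exists_common_ext
    ((algebraMap A₁ q.asIdeal.ResidueField).comp (algebraMap A₀ A₁))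
    ((algebraMap B₀ r.asIdeal.ResidueField).comp (algebraMap A₀ B₀)) (by
      rw [← RingHom.comap_ker, ← RingHom.comap_ker, Ideal.ker_algebraMap_residueField,
        Ideal.ker_algebraMap_residueField]
      exact congrArg PrimeSpectrum.asIdeal hr.symm)
  let u := i.comp (algebraMap A₁ q.asIdeal.ResidueField)
  letI := (u.comp (algebraMap A₀ A₁)).toAlgebra
  let H : A₁ ⊗[A₀] B₀ →ₐ[A₀] Ω := Algebra.TensorProduct.lift
    (⟨u, fun _ => rfl⟩ : A₁ →ₐ[A₀] Ω)
    (⟨j.comp (algebraMap B₀ r.asIdeal.ResidueField),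
      fun x => (RingHom.congr_fun hij x).symm⟩ : B₀ →ₐ[A₀] Ω) fun _ _ => .all _ _
  haveI : (RingHom.ker H.toRingHom).IsPrime := RingHom.ker_isPrime _
  refine ⟨⟨RingHom.ker H.toRingHom, inferInstance⟩, PrimeSpectrum.ext ?_⟩
  show (RingHom.ker H.toRingHom).comap (algebraMap A₁ (A₁ ⊗[A₀] B₀)) = q.asIdeal
  rw [RingHom.comap_ker, show H.toRingHom.comp (algebraMap A₁ (A₁ ⊗[A₀] B₀)) = u from
      RingHom.ext fun x => by
        show u x * j (algebraMap B₀ r.asIdeal.ResidueField 1) = u x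
        rw [map_one, map_one, mul_one],
    RingHom.ker_comp_of_injective _ i.injective, Ideal.ker_algebraMap_residueField]

theorem exists_model_aux {A Bb A₀ B₀ : Type u} [CommRing A] [CommRing Bb] [Algebra A Bb]
    [Module.FaithfullyFlat A Bb] [CommRing A₀] [CommRing B₀] [Algebra A₀ A] [Algebra A₀ B₀]
    [Algebra.Etale A₀ B₀] [Algebra.FiniteType ℤ A₀] (e : Bb ≃ₐ[A] A ⊗[A₀] B₀) (a₀ : A₀) :
    ∃ (A₁ B₁ : Type u) (_ : CommRing A₁) (_ : CommRing B₁) (_ : Algebra A₁ A) (_ : Algebra A₁ B₁),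
      Algebra.Etale A₁ B₁ ∧ Module.FaithfullyFlat A₁ B₁ ∧ Algebra.FinitePresentation ℤ B₁ ∧
      Algebra.FiniteType ℤ A₁ ∧ algebraMap A₀ A a₀ ∈ Set.range (algebraMap A₁ A) ∧
      Nonempty (Bb ≃ₐ[A] A ⊗[A₁] B₁) := by
  obtain ⟨I₀, hI₀, hI⟩ := PrimeSpectrum.isCompact_isOpen_iff_ideal.1
    ⟨isCompact_range (PrimeSpectrum.continuous_comap (algebraMap A₀ B₀)),
      (PrimeSpectrum.isOpenMap_comap_of_hasGoingDown_of_finitePresentation
        (R := A₀) (S := B₀)).isOpen_range⟩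
  have htop : I₀.map (algebraMap A₀ A) = ⊤ := by
    by_contra hne
    obtain ⟨m, hm, hle⟩ := Ideal.exists_le_maximal _ hne
    obtain ⟨r, hr⟩ := PrimeSpectrum.comap_surjective_of_faithfullyFlat (A := A) (B := Bb) ⟨m, hm.isPrime⟩
    have hmem : PrimeSpectrum.comap (algebraMap A₀ A) ⟨m, hm.isPrime⟩ ∈
        Set.range (PrimeSpectrum.comap (algebraMap A₀ B₀)) := by
      refine ⟨PrimeSpectrum.comap
        (e.symm.toRingEquiv.toRingHom.comp (Algebra.TensorProduct.includeRight : B₀ →ₐ[A₀] A ⊗[A₀] B₀).toRingHom) r, ?_⟩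
      rw [← hr, ← PrimeSpectrum.comap_comp_apply, ← PrimeSpectrum.comap_comp_apply]
      congr 1
      ext x
      show e.symm (1 ⊗ₜ algebraMap A₀ B₀ x) = algebraMap A Bb (algebraMap A₀ A x)
      rw [← e.symm.commutes]
      congr 1
      rw [Algebra.algebraMap_eq_smul_one, ← smul_tmul, ← Algebra.algebraMap_eq_smul_one]
      rfl
    rw [← hI, Set.mem_compl_iff, PrimeSpectrum.mem_zeroLocus] at hmem
    exact hmem (Ideal.map_le_iff_le_comap.1 hle)
  obtain ⟨t, ht⟩ := hI₀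
  rw [← ht, Ideal.map_span, Ideal.eq_top_iff_one] at htop
  obtain ⟨l, hl⟩ := (Finsupp.mem_span_iff_linearCombination _ _ _).1 htop
  classical
  let A₁ : Subalgebra A₀ A := Algebra.adjoin A₀ (l.support.image l : Set A)
  haveI : Algebra.FiniteType A₀ A₁ :=
    (Subalgebra.fg_iff_finiteType A₁).1 ⟨l.support.image l, rfl⟩
  haveI : Algebra.FiniteType ℤ A₁ :=
    Algebra.FiniteType.trans (inferInstance : Algebra.FiniteType ℤ A₀) inferInstance
  haveI : IsNoetherianRing A₁ := Algebra.FiniteType.isNoetherianRing ℤ A₁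
  haveI : Algebra.FinitePresentation ℤ A₁ :=
    (Algebra.FinitePresentation.of_finiteType (R := ℤ) (A := A₁)).1 inferInstance
  have htop₁ : I₀.map (algebraMap A₀ A₁) = ⊤ := by
    rw [Ideal.eq_top_iff_one]
    have h1 : ∀ x, l x ∈ A₁ := fun x => by
      by_cases hx : x ∈ l.support
      · exact Algebra.subset_adjoin (Finset.mem_image_of_mem _ hx)
      · rw [Finsupp.notMem_support_iff.1 hx]; exact zero_mem _
    have hsum : (1 : A₁) = ∑ x ∈ l.support,
        (⟨l x, h1 x⟩ : A₁) * (⟨x.1, by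
          obtain ⟨y, -, hy⟩ := x.2
          rw [← hy]
          exact A₁.algebraMap_mem y⟩ : A₁) := by
      refine Subtype.ext ?_
      rw [AddSubmonoidClass.coe_finsetSum]
      exact hl.symm
    rw [hsum]
    refine sum_mem fun x _ => Ideal.mul_mem_left _ _ ?_
    obtain ⟨y, hy, hyx⟩ := x.2
    convert Ideal.mem_map_of_mem (algebraMap A₀ A₁) (show y ∈ I₀ from ht ▸ Ideal.subset_span hy) using 1
    exact Subtype.ext hyx.symm
  haveI := faithfullyFlat_baseChange (B₀ := B₀) hI htop₁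
  haveI : IsScalarTower ℤ A₁ (A₁ ⊗[A₀] B₀) :=
    ⟨fun n x y => by rw [zsmul_eq_mul, mul_smul, Int.cast_smul_eq_zsmul]⟩
  refine ⟨A₁, A₁ ⊗[A₀] B₀, inferInstance, inferInstance, inferInstance, inferInstance,
    inferInstance, inferInstance, Algebra.FinitePresentation.trans ℤ A₁ _, inferInstance,
    ⟨⟨algebraMap A₀ A a₀, A₁.algebraMap_mem a₀⟩, rfl⟩,
    ⟨e.trans (Algebra.TensorProduct.cancelBaseChange A₀ A₁ A A B₀).symm⟩⟩

/-- A faithfully flat etale algebra comes from one over a finitely generated subring, which may be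
taken to contain a given element. -/
theorem exists_model {A Bb : Type u} [CommRing A] [CommRing Bb] [Algebra A Bb] [Algebra.Etale A Bb]
    [Module.FaithfullyFlat A Bb] (a : A) :
    ∃ (A₁ B₁ : Type u) (_ : CommRing A₁) (_ : CommRing B₁) (_ : Algebra A₁ A) (_ : Algebra A₁ B₁),
      Algebra.Etale A₁ B₁ ∧ Module.FaithfullyFlat A₁ B₁ ∧ Algebra.FinitePresentation ℤ B₁ ∧
      Algebra.FiniteType ℤ A₁ ∧ a ∈ Set.range (algebraMap A₁ A) ∧
      Nonempty (Bb ≃ₐ[A] A ⊗[A₁] B₁) := by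
  letI : Algebra (Polynomial ℤ) A := (Polynomial.aeval (R := ℤ) a).toRingHom.toAlgebra
  obtain ⟨A₀, B₀, _, _, hfg, het, ⟨e⟩⟩ := Algebra.Etale.exists_subalgebra_fg (Polynomial ℤ) A Bb
  haveI : Algebra.FiniteType (Polynomial ℤ) A₀ := (Subalgebra.fg_iff_finiteType A₀).1 hfg
  haveI : Algebra.FiniteType ℤ A₀ :=
    Algebra.FiniteType.trans (inferInstance : Algebra.FiniteType ℤ (Polynomial ℤ)) inferInstance
  have h : a ∈ A₀ := by
    have : algebraMap (Polynomial ℤ) A Polynomial.X = a := Polynomial.aeval_X a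
    rw [← this]
    exact A₀.algebraMap_mem _
  exact exists_model_aux (A₀ := A₀) e ⟨a, h⟩

end Groth.Agent.Lib.AffThick
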