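import Groth.Agent.H95.TopInv.Hom
import Mathlib.RingTheory.RingHom.Etale
import Mathlib.RingTheory.FinitePresentation

/-!
# Etale algebras which agree modulo a nil ideal; lifting maps modulo finitely generated ideals
-/

set_option autoImplicit false
set_option linter.style.haveILetI false

universe u

open CategoryTheory AlgebraicGeometry

namespace Groth.Agent.Lib.AffThick

/-- A surjection with nil kernel is a thickening on spectra. -/
theorem surjective_specMap {A B : Type u} [CommRing A] [CommRing B] (f : A →+* B)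
    (hf : Function.Surjective f) (hn : RingHom.ker f ≤ nilradical A) :
    IsClosedImmersion (Spec.map (CommRingCat.ofHom f)) ∧ Surjective (Spec.map (CommRingCat.ofHom f)) := by
  refine ⟨IsClosedImmersion.spec_of_surjective _ hf, ⟨fun p => ?_⟩⟩
  let p' : PrimeSpectrum A := p
  have h : p' ∈ Set.range (PrimeSpectrum.comap f) := by
    rw [range_comap_of_surjective _ f hf, PrimeSpectrum.mem_zeroLocus]
    exact hn.trans (nilradical_le_prime p'.asIdeal)
  exact h

/-- A map of etale algebras which is bijective modulo nil ideals is bijective. -/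
theorem bijective_of_thickening {R P Q Q₀ : Type u} [CommRing R] [CommRing P] [CommRing Q]
    [CommRing Q₀] [Algebra R P] [Algebra R Q] [Algebra.Etale R P] [Algebra.Etale R Q]
    (f : P →ₐ[R] Q) (ρ : Q →+* Q₀) (hρ : Function.Surjective ρ)
    (hρn : RingHom.ker ρ ≤ nilradical Q) (hf : Function.Surjective (ρ.comp f.toRingHom))
    (hfn : RingHom.ker (ρ.comp f.toRingHom) ≤ nilradical P) : Function.Bijective f := by
  let y := Spec.map (CommRingCat.ofHom (algebraMap R Q))
  let x := Spec.map (CommRingCat.ofHom (algebraMap R P))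
  let φ := Spec.map (CommRingCat.ofHom f.toRingHom)
  let j := Spec.map (CommRingCat.ofHom ρ)
  obtain ⟨hj, hjs⟩ := surjective_specMap ρ hρ hρn
  obtain ⟨hjf, hjfs⟩ := surjective_specMap (ρ.comp f.toRingHom) hf hfn
  have hcomp : j ≫ φ = Spec.map (CommRingCat.ofHom (ρ.comp f.toRingHom)) :=
    (Spec.map_comp _ _).symm
  have hφ : φ ≫ x = y := by
    simp only [φ, x, y, ← Spec.map_comp, ← CommRingCat.ofHom_comp]
    exact congrArg (fun g => Spec.map (CommRingCat.ofHom g)) f.comp_algebraMap
  haveI : Etale y := (HasRingHomProperty.Spec_iff (P := @Etale)).2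
    (RingHom.etale_algebraMap.2 ‹Algebra.Etale R Q›)
  haveI : Etale x := (HasRingHomProperty.Spec_iff (P := @Etale)).2
    (RingHom.etale_algebraMap.2 ‹Algebra.Etale R P›)
  haveI : IsClosedImmersion (j ≫ φ) := hcomp ▸ hjf
  haveI : Surjective (j ≫ φ) := hcomp ▸ hjfs
  haveI := hj
  haveI := hjs
  obtain ⟨g, hg₁, hg₂⟩ := H95.TopInv.exists_hom y (j ≫ φ) j x (by rw [Category.assoc, hφ])
  have h₁ : φ ≫ g = 𝟙 _ := H95.TopInv.hom_ext y j
    (by rw [← Category.assoc, hg₁, Category.comp_id]) (by rw [Category.assoc, hg₂, hφ, Category.id_comp])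
  have h₂ : g ≫ φ = 𝟙 _ := H95.TopInv.hom_ext x (j ≫ φ)
    (by rw [← Category.assoc, hg₁, Category.comp_id]) (by rw [Category.assoc, hφ, hg₂, Category.id_comp])
  haveI : IsIso φ := ⟨g, h₁, h₂⟩
  haveI : IsIso (CommRingCat.ofHom f.toRingHom) := by
    haveI : IsIso (Scheme.Spec.map (CommRingCat.ofHom f.toRingHom).op) := (inferInstance : IsIso φ)
    haveI : IsIso (CommRingCat.ofHom f.toRingHom).op :=
      isIso_of_reflects_iso (CommRingCat.ofHom f.toRingHom).op Scheme.Spec
    exact isIso_of_op _
  exact ConcreteCategory.bijective_of_isIso (CommRingCat.ofHom f.toRingHom)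

/-- A map from a finitely presented ring lifts modulo a finitely generated ideal. -/
theorem exists_fg_lift {B Bb P : Type u} [CommRing B] [CommRing Bb] [CommRing P]
    [Algebra.FinitePresentation ℤ P] (π : B →+* Bb) (hπ : Function.Surjective π) (f : P →+* Bb) :
    ∃ (J : Ideal B), J.FG ∧ J ≤ RingHom.ker π ∧
      ∀ J' : Ideal B, J ≤ J' → ∃ g : P →+* B ⧸ J', ∀ x b, g x = Ideal.Quotient.mk J' b →
        J' ≤ RingHom.ker π → π b = f x := by
  obtain ⟨n, q, hq, hker⟩ := ‹Algebra.FinitePresentation ℤ P›.out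
  choose c hc using fun i => hπ (f (q (MvPolynomial.X i)))
  let G : MvPolynomial (Fin n) ℤ →+* B := MvPolynomial.eval₂Hom (Int.castRingHom B) c
  have hG : π.comp G = f.comp q.toRingHom := MvPolynomial.ringHom_ext (fun r => by simp)
    (fun i => by simp [G, hc])
  refine ⟨(RingHom.ker q).map G, hker.map G, ?_, fun J' hJ' => ?_⟩
  · rw [Ideal.map_le_iff_le_comap]
    intro z hz
    show π (G z) = 0
    rw [← RingHom.comp_apply, hG]
    show f (q z) = 0
    rw [show q z = 0 from hz, map_zero]
  · have hle : RingHom.ker q.toRingHom ≤ RingHom.ker ((Ideal.Quotient.mk J').comp G) := fun z hz =>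
      Ideal.Quotient.eq_zero_iff_mem.2 (hJ' (Ideal.mem_map_of_mem G hz))
    refine ⟨q.toRingHom.liftOfSurjective hq ⟨_, hle⟩, fun x b hxb hker' => ?_⟩
    obtain ⟨z, rfl⟩ := hq x
    have h : Ideal.Quotient.mk J' (G z) = Ideal.Quotient.mk J' b := by
      rw [← hxb]
      exact (RingHom.liftOfRightInverse_comp_apply q.toRingHom _ _ ⟨_, hle⟩ z).symm
    have := hker' (Ideal.Quotient.eq.1 h)
    rw [RingHom.mem_ker, map_sub, sub_eq_zero] at this
    rw [← this, ← RingHom.comp_apply, hG]
    rfl

end Groth.Agent.Lib.AffThick
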