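import Groth.Agent.Lib.AffThick.Rel
import Mathlib.RingTheory.Nilpotent.Lemmas
import Mathlib.RingTheory.TensorProduct.Quotient

/-!
# Invariant finitely generated nilpotent ideals for affine etale equivalence relations

Every finitely generated ideal inside an invariant ideal is contained in a finitely generated
invariant one inside it. The proof is by descending induction on the loci of points with many
related disjoint points.
-/

set_option autoImplicit false
set_option linter.style.haveILetI false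

universe u

namespace Groth.Agent.Lib.AffThick

/-- Inclusion of ideals at a prime. -/
def LeAt {R : Type u} [CommRing R] (q : Ideal R) (I I' : Ideal R) : Prop :=
  ∀ x ∈ I, ∃ s ∉ q, s * x ∈ I'

namespace LeAt

variable {R S : Type u} [CommRing R] [CommRing S] {q : Ideal R} [q.IsPrime] {I I' I'' : Ideal R}

theorem of_le (h : I ≤ I') : LeAt q I I' :=
  fun x hx => ⟨1, fun h1 => ‹q.IsPrime›.ne_top ((Ideal.eq_top_iff_one q).2 h1), by simpa using h hx⟩

theorem trans (h : LeAt q I I') (h' : LeAt q I' I'') : LeAt q I I'' := by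
  intro x hx
  obtain ⟨s, hs, hsx⟩ := h x hx
  obtain ⟨t, ht, htx⟩ := h' _ hsx
  exact ⟨t * s, fun e => (‹q.IsPrime›.mem_or_mem e).elim ht hs, by rwa [mul_assoc]⟩

theorem span {X : Set R} (h : ∀ x ∈ X, ∃ s ∉ q, s * x ∈ I') : LeAt q (Ideal.span X) I' := by
  intro x hx
  induction hx using Submodule.span_induction with
  | mem y hy => exact h y hy
  | zero =>
    exact ⟨1, fun h1 => ‹q.IsPrime›.ne_top ((Ideal.eq_top_iff_one q).2 h1), by simp⟩
  | add y z _ _ hy hz =>
    obtain ⟨s, hs, hsy⟩ := hy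
    obtain ⟨t, ht, htz⟩ := hz
    refine ⟨t * s, fun e => (‹q.IsPrime›.mem_or_mem e).elim ht hs, ?_⟩
    rw [mul_add, mul_assoc, show t * s * z = s * (t * z) by ring]
    exact add_mem (I'.mul_mem_left t hsy) (I'.mul_mem_left s htz)
  | smul c y _ hy =>
    obtain ⟨s, hs, hsy⟩ := hy
    refine ⟨s, hs, ?_⟩
    rw [smul_eq_mul, mul_left_comm]
    exact I'.mul_mem_left c hsy

theorem sup {J : Ideal R} (h : LeAt q I I') (h' : LeAt q J I') : LeAt q (I ⊔ J) I' := by
  rw [← Ideal.span_eq I, ← Ideal.span_eq J, ← Ideal.span_union]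
  exact span fun x hx => hx.elim (h x) (h' x)

theorem iSup {ι : Sort*} {J : ι → Ideal R} (h : ∀ i, LeAt q (J i) I') : LeAt q (⨆ i, J i) I' := by
  rw [Submodule.iSup_eq_span]
  exact span fun x hx => by
    obtain ⟨i, hi⟩ := Set.mem_iUnion.1 hx
    exact h i x hi

theorem map (f : R →+* S) (q : Ideal S) [q.IsPrime] (h : LeAt (q.comap f) I I') :
    LeAt q (I.map f) (I'.map f) := by
  refine span ?_
  rintro _ ⟨x, hx, rfl⟩
  obtain ⟨s, hs, hsx⟩ := h x hx
  exact ⟨f s, hs, by rw [← map_mul]; exact Ideal.mem_map_of_mem f hsx⟩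

theorem le_of_forall {I I' : Ideal R} (h : ∀ p : PrimeSpectrum R, LeAt p.asIdeal I I') : I ≤ I' := by
  intro x hx
  by_contra hne
  let N : Ideal R := Submodule.colon I' ({x} : Set R)
  have hN : N ≠ ⊤ := by
    intro e
    have h1 : (1 : R) ∈ N := e ▸ trivial
    exact hne (by simpa using Submodule.mem_colon_singleton.1 h1)
  obtain ⟨m, hm, hle⟩ := Ideal.exists_le_maximal N hN
  obtain ⟨s, hs, hsx⟩ := h ⟨m, hm.isPrime⟩ x hx
  exact hs (hle (Submodule.mem_colon_singleton.2 hsx))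

theorem map_of_eqOn (u v : R →+* S) (q : Ideal S) [q.IsPrime] {s : S} (hs : s ∉ q)
    (h : ∀ b, s * (u b - v b) = 0) (I : Ideal R) : LeAt q (I.map u) (I.map v) := by
  refine span ?_
  rintro _ ⟨x, hx, rfl⟩
  refine ⟨s, hs, ?_⟩
  rw [show s * u x = s * v x from sub_eq_zero.1 (by rw [← mul_sub]; exact h x)]
  exact Ideal.mul_mem_left _ _ (Ideal.mem_map_of_mem v hx)

end LeAt

namespace EtRel

variable {B C : Type u} [CommRing B] [CommRing C] (E : EtRel B C)

/-- The ideal is invariant over the locus `D k`. -/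
def InvOn (k : ℕ) (J : Ideal B) : Prop :=
  ∀ c : PrimeSpectrum C, PrimeSpectrum.comap E.r₁ c ∈ E.D k →
    LeAt c.asIdeal (J.map E.r₁) (J.map E.r₂) ∧ LeAt c.asIdeal (J.map E.r₂) (J.map E.r₁)

/-- Comparison of an invariant ideal with its transfers to a tuple. -/
theorem leAt_of_tup {k : ℕ} {J : Ideal B} (hJ : E.InvOn (k + 1) J)
    {T : Type u} [CommRing T] {π : Fin (k + 1) → B →+* T} (hπ : E.Tup π)
    {G : Type u} [CommRing G] (g : T →+* G) (u : B →+* G) (hu : E.Rel u (g.comp (π 0)))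
    (q : Ideal G) [q.IsPrime] : LeAt q (J.map u) ((⨆ a, J.map (π a)).map g) := by
  have hl : ∀ a, E.Rel (g.comp (π a)) u := fun a => ((hπ.rel a 0).comp g).trans' hu.symm'
  choose l hl₁ hl₂ using hl
  have hle : ∀ a, J.map (g.comp (π a)) ≤ (⨆ a, J.map (π a)).map g := fun a => by
    rw [← Ideal.map_map]
    exact Ideal.map_mono (le_iSup (fun a => J.map (π a)) a)
  by_cases hcase : ∃ a, l a E.e ∉ q
  · obtain ⟨a, ha⟩ := hcase
    refine (LeAt.map_of_eqOn u (g.comp (π a)) q ha (fun b => ?_) J).trans (LeAt.of_le (hle a))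
    have := E.eqOn (l a) b
    rw [← RingHom.comp_apply, ← RingHom.comp_apply, hl₁, hl₂] at this
    linear_combination -this
  · push Not at hcase
    let r := algebraMap G q.ResidueField
    have hne : ∀ a, r.comp (g.comp (π a)) ≠ r.comp u := by
      intro a he
      have h1 : r.comp (l a) = (r.comp u).comp E.diag := E.ext
        (by rw [RingHom.comp_assoc, hl₁, he, RingHom.comp_assoc, E.diag₁, RingHom.comp_id])
        (by rw [RingHom.comp_assoc, hl₂, RingHom.comp_assoc, E.diag₂, RingHom.comp_id])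
      have h2 := RingHom.congr_fun h1 E.e
      rw [RingHom.comp_apply, RingHom.comp_apply, E.diag_e, map_one] at h2
      exact one_ne_zero (h2.symm.trans (Ideal.algebraMap_residueField_eq_zero.2 (hcase a)))
    have htup := (hπ.comp (r.comp g)).snoc_of_field (r.comp u)
      (fun a => by rw [RingHom.comp_assoc]; exact Rel.comp (E := E) ⟨l a, hl₁ a, hl₂ a⟩ r)
      (fun a => by rw [RingHom.comp_assoc]; exact hne a)
    have hc : PrimeSpectrum.comap E.r₁ (PrimeSpectrum.comap (l 0) ⟨q, inferInstance⟩) ∈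
        E.D (k + 1) := by
      refine ⟨q.ResidueField, inferInstance, _, htup, ?_⟩
      show RingHom.ker (Fin.snoc (α := fun _ => B →+* q.ResidueField)
        (fun a => (r.comp g).comp (π a)) (r.comp u) (Fin.castSucc 0)) = (q.comap (l 0)).comap E.r₁
      rw [Fin.snoc_castSucc, Ideal.comap_comap, hl₁, RingHom.comp_assoc, ← RingHom.comap_ker,
        Ideal.ker_algebraMap_residueField]
    have h := ((hJ _ hc).2).map (l 0) q
    rw [Ideal.map_map, Ideal.map_map, hl₁, hl₂] at h
    exact h.trans (LeAt.of_le (hle 0))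

theorem map_eq_of_rel {N : Ideal B} (hN : N.map E.r₁ = N.map E.r₂) {L : Type u} [CommRing L]
    {u v : B →+* L} (h : E.Rel u v) : N.map u = N.map v := by
  obtain ⟨l, rfl, rfl⟩ := h
  rw [← Ideal.map_map, ← Ideal.map_map, hN]

theorem step {k : ℕ} (N : Ideal B) (hN : N.map E.r₁ = N.map E.r₂)
    (ih : ∀ J₁ : Ideal B, J₁.FG → J₁ ≤ N →
      ∃ J, J.FG ∧ J ≤ N ∧ J₁ ≤ J ∧ E.InvOn (k + 1) J)
    (J₁ : Ideal B) (hJ₁ : J₁.FG) (hnil : J₁ ≤ N) :
    ∃ J, J.FG ∧ J ≤ N ∧ J₁ ≤ J ∧ E.InvOn k J := by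
  obtain ⟨J', hJ'fg, hJ'nil, hJ₁J', hinv⟩ := ih J₁ hJ₁ hnil
  obtain ⟨T, _, π, het, hπ, hlift⟩ := E.exists_univ k
  let P := Push.mk' E.r₂ (π 0)
  let h : B →+* P.P := P.inl.comp E.r₁
  have hflat : h.Flat :=
    (RingHom.Etale.iff_flat_and_formallyUnramified.1
      (RingHom.Etale.stableUnderComposition _ _ E.et (P.etale_inl het))).1
  have hD := E.D_eq_range hπ hlift
  obtain ⟨Gk, hGk, hGD⟩ := E.exists_zeroLocus k
  let K : Ideal T := ⨆ a, J'.map (π a)
  let K' : Ideal P.P := K.map P.inr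
  have hKfg : K'.FG := Ideal.FG.map (Submodule.fg_iSup _ fun a => hJ'fg.map (π a)) P.inr
  have hrel : E.Rel h (P.inr.comp (π 0)) := ⟨P.inl, rfl, P.comm⟩
  have hKN : K' ≤ N.map h := by
    simp only [K', K, Ideal.map_iSup, Ideal.map_map, iSup_le_iff]
    intro a
    rw [E.map_eq_of_rel hN (hrel.trans' (((hπ.rel 0 a)).comp P.inr))]
    exact Ideal.map_mono hJ'nil
  -- the ideal `K'` descends along `h`
  let W := Push.mk' h h
  have hsym : K'.map W.inr ≤ K'.map W.inl := by
    simp only [K', K, Ideal.map_iSup, Ideal.map_map, iSup_le_iff]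
    intro a
    refine le_trans (b := K.map (W.inl.comp P.inr)) (LeAt.le_of_forall fun q => ?_)
      (le_of_eq (by simp only [K, Ideal.map_iSup, Ideal.map_map, RingHom.comp_assoc]))
    refine E.leAt_of_tup hinv hπ (W.inl.comp P.inr) _ ?_ q.asIdeal
    have h1 : E.Rel ((W.inr.comp P.inr).comp (π a)) (W.inr.comp h) := by
      rw [RingHom.comp_assoc]
      exact ((((hπ.rel a 0).comp P.inr)).trans' hrel.symm').comp W.inr
    rw [← W.comm] at h1
    show E.Rel ((W.inr.comp P.inr).comp (π a)) (W.inl.comp (P.inr.comp (π 0)))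
    exact h1.trans' (hrel.comp W.inl)
  let J₀ : Ideal B := K'.comap h
  have hJ₀ : J₀.map h = K' := by
    refine le_antisymm Ideal.map_comap_le fun x hx => ?_
    letI := h.toAlgebra
    haveI : Module.Flat B P.P := hflat
    let φ : B →ₗ[B] P.P ⧸ K' := Algebra.linearMap B (P.P ⧸ K')
    have hker : LinearMap.ker φ = J₀ := by
      ext b
      exact Ideal.Quotient.eq_zero_iff_mem
    rw [← hker]
    refine mem_map_of_tmul_eq_zero φ ?_
    have hx' := hsym (Ideal.mem_map_of_mem W.inr hx)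
    let ρ : P.P →ₐ[B] P.P ⧸ K' := Ideal.Quotient.mkₐ B K'
    have hc := Ideal.mem_map_of_mem
      (Algebra.TensorProduct.map ρ (AlgHom.id B P.P)).toRingHom hx'
    have hz : (K'.map W.inl).map (Algebra.TensorProduct.map ρ (AlgHom.id B P.P)).toRingHom = ⊥ := by
      refine le_bot_iff.1 (Ideal.map_le_iff_le_comap.2 (Ideal.map_le_iff_le_comap.2 fun y hy => ?_))
      refine Ideal.mem_bot.2 ?_
      show ρ y ⊗ₜ[B] (1 : P.P) = 0
      rw [show ρ y = 0 from Ideal.Quotient.eq_zero_iff_mem.2 hy, TensorProduct.zero_tmul]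
    replace hc := hz.le hc
    change ρ 1 ⊗ₜ[B] x = 0 at hc
    rw [map_one] at hc
    show algebraMap B (P.P ⧸ K') 1 ⊗ₜ[B] x = 0
    rwa [map_one]
  obtain ⟨J₃, hJ₃fg, hJ₃le, hJ₃⟩ : ∃ J₃ : Ideal B, J₃.FG ∧ J₃ ≤ J₀ ∧ J₃.map h = K' := by
    obtain ⟨s, hs⟩ := hKfg
    have : ∀ x ∈ s, ∃ J₃ : Ideal B, J₃.FG ∧ J₃ ≤ J₀ ∧ x ∈ J₃.map h := by
      intro x hx
      have hx' : x ∈ J₀.map h := by rw [hJ₀, ← hs]; exact Ideal.subset_span hx
      obtain ⟨t, ht, hxt⟩ := Submodule.mem_span_finite_of_mem_span hx'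
      classical
      obtain ⟨t', ht', rfl⟩ := Finset.subset_set_image_iff.1 ht
      refine ⟨Ideal.span (t' : Set B), ⟨t', rfl⟩, Ideal.span_le.2 ht', ?_⟩
      rw [Ideal.map_span]
      simpa using hxt
    choose! F hF₁ hF₂ hF₃ using this
    refine ⟨⨆ x ∈ s, F x, Submodule.fg_biSup s _ hF₁, iSup₂_le hF₂, le_antisymm ?_ ?_⟩
    · rw [← hJ₀]
      exact Ideal.map_mono (iSup₂_le hF₂)
    · rw [← hs]
      exact Ideal.span_le.2 fun x hx =>
        Ideal.map_mono (le_iSup₂ (f := fun x (_ : x ∈ s) => F x) x hx) (hF₃ x hx)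
  obtain ⟨n, hn⟩ : ∃ n, Gk ^ n * J₃ ≤ N := by
    obtain ⟨s, hs⟩ := hJ₃fg
    have hx : ∀ x ∈ s, ∃ n, ∀ g ∈ Gk ^ n, g * x ∈ N := by
      intro x hx
      refine (Ideal.exists_pow_le_of_le_radical_of_fg (I := Gk)
        (J := Submodule.colon N ({x} : Set B)) ?_ hGk).imp fun n hn g hg => ?_
      · rw [Ideal.radical_eq_sInf]
        refine le_sInf fun p ⟨hle, hp⟩ => ?_
        by_contra hGp
        obtain ⟨z, hz⟩ : (⟨p, hp⟩ : PrimeSpectrum B) ∈ Set.range (PrimeSpectrum.comap h) := by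
          rw [← hD, hGD, Set.mem_compl_iff, PrimeSpectrum.mem_zeroLocus]
          exact hGp
        letI := h.toAlgebra
        haveI : Module.Flat B P.P := hflat
        have hxN : h x ∈ N.map h := by
          refine hKN (hJ₃ ▸ Ideal.mem_map_of_mem h ?_)
          rw [← hs]
          exact Ideal.subset_span hx
        let φ : B →ₗ[B] B ⧸ N := LinearMap.toSpanSingleton B _ (Ideal.Quotient.mk N x)
        have hφ : φ 1 = Ideal.Quotient.mk N x := one_smul B _
        have h1 : φ 1 ⊗ₜ[B] (1 : P.P) = 0 := by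
          let q := Algebra.TensorProduct.quotIdealMapEquivQuotTensor P.P N
          have e1 : Ideal.Quotient.mk N x = x • (1 : B ⧸ N) := by
            rw [Algebra.smul_def, mul_one]; rfl
          have e2 : x • (1 : P.P) = h x := by rw [Algebra.smul_def, mul_one]; rfl
          rw [hφ, e1, TensorProduct.smul_tmul, e2,
            ← Algebra.TensorProduct.quotIdealMapEquivQuotTensor_mk,
            show Ideal.Quotient.mk (N.map (algebraMap B P.P)) (h x) = 0 from
              Ideal.Quotient.eq_zero_iff_mem.2 hxN, map_zero]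
        have hle' : LinearMap.ker φ ≤ p := fun t ht => hle (Submodule.mem_colon_singleton.2 (by
          rw [smul_eq_mul, ← Ideal.Quotient.eq_zero_iff_mem, map_mul]
          exact ht))
        have := Ideal.map_mono (f := h) hle' (mem_map_of_tmul_eq_zero φ h1)
        rw [show p = z.asIdeal.comap h from congrArg PrimeSpectrum.asIdeal hz.symm] at this
        exact z.isPrime.ne_top ((Ideal.eq_top_iff_one _).2 (Ideal.map_comap_le this))
      · simpa using Submodule.mem_colon_singleton.1 (hn hg)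
    choose! m hm using hx
    refine ⟨s.sup m, ?_⟩
    rw [← hs, mul_comm, Ideal.mul_le]
    intro y hy g hg
    induction hy using Submodule.span_induction with
    | mem w hw =>
      rw [mul_comm]
      exact hm w hw g (Ideal.pow_le_pow_right (Finset.le_sup hw) hg)
    | zero => simp
    | add u v _ _ hu hv => rw [add_mul]; exact add_mem hu hv
    | smul c u _ hu => rw [smul_eq_mul, mul_assoc]; exact Ideal.mul_mem_left _ _ hu
  let J := Gk ^ n * J₃ ⊔ J₁
  refine ⟨J, Submodule.FG.sup ((Ideal.FG.pow hGk).mul hJ₃fg) hJ₁, sup_le hn hnil, le_sup_right, ?_⟩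
  -- `J` restricts to `K'`
  have hJh : J.map h = K' := by
    refine le_antisymm ?_ (LeAt.le_of_forall fun z => ?_)
    · rw [Ideal.map_sup]
      refine sup_le ((Ideal.map_mono Ideal.mul_le_right).trans hJ₃.le) ?_
      refine (Ideal.map_mono hJ₁J').trans (LeAt.le_of_forall fun z => ?_)
      exact E.leAt_of_tup hinv hπ P.inr h hrel z.asIdeal
    · rw [← hJ₃]
      refine LeAt.map h z.asIdeal ?_
      have hz : PrimeSpectrum.comap h z ∈ E.D k := hD ▸ ⟨z, rfl⟩
      rw [hGD, Set.mem_compl_iff, PrimeSpectrum.mem_zeroLocus, Set.not_subset] at hz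
      obtain ⟨g, hg, hgz⟩ := hz
      exact fun x hx => ⟨g ^ n, fun e => hgz (z.isPrime.mem_of_pow_mem n (map_pow h g n ▸ e)),
        Submodule.mem_sup_left (Ideal.mul_mem_mul (Ideal.pow_mem_pow hg n) hx)⟩
  intro c hc
  -- a point over `c` of both pullbacks of `h`
  have hc₂ := E.D_invariant c hc
  rw [hD] at hc hc₂
  obtain ⟨z₁, hz₁⟩ := hc
  obtain ⟨z₂, hz₂⟩ := hc₂
  let G₀ := Push.mk' E.r₁ h
  let G₁ := Push.mk' (G₀.inl.comp E.r₂) h
  let α : C →+* G₁.P := G₁.inl.comp G₀.inl
  have hαflat : α.Flat :=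
    RingHom.Flat.comp (G₀.flat_inl hflat) (G₁.flat_inl hflat)
  obtain ⟨zc, hzc⟩ : ∃ zc : PrimeSpectrum G₁.P, PrimeSpectrum.comap α zc = c := by
    let rc := algebraMap C c.asIdeal.ResidueField
    let ra := algebraMap P.P z₁.asIdeal.ResidueField
    let rb := algebraMap P.P z₂.asIdeal.ResidueField
    obtain ⟨Ω₁, _, i₁, j₁, h₁⟩ := exists_common_ext (rc.comp E.r₁) (ra.comp h) (by
      rw [← RingHom.comap_ker, ← RingHom.comap_ker, Ideal.ker_algebraMap_residueField,
        Ideal.ker_algebraMap_residueField]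
      exact congrArg PrimeSpectrum.asIdeal hz₁.symm)
    obtain ⟨Ω₂, _, i₂, j₂, h₂⟩ := exists_common_ext ((i₁.comp rc).comp E.r₂) (rb.comp h) (by
      rw [← RingHom.comap_ker (i₁.comp rc), RingHom.ker_comp_of_injective _ i₁.injective,
        ← RingHom.comap_ker rb, Ideal.ker_algebraMap_residueField,
        Ideal.ker_algebraMap_residueField]
      exact congrArg PrimeSpectrum.asIdeal hz₂.symm)
    let d₀ := G₀.desc (i₁.comp rc) (j₁.comp ra) (by rw [RingHom.comp_assoc, h₁, RingHom.comp_assoc])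
    let d₁ := G₁.desc (i₂.comp d₀) (j₂.comp rb) (by
      show i₂.comp ((d₀.comp G₀.inl).comp E.r₂) = j₂.comp (rb.comp h)
      rw [G₀.desc_inl]
      exact h₂)
    haveI : (RingHom.ker d₁).IsPrime := RingHom.ker_isPrime _
    refine ⟨⟨RingHom.ker d₁, inferInstance⟩, PrimeSpectrum.ext ?_⟩
    show (RingHom.ker d₁).comap α = _
    rw [RingHom.comap_ker, ← RingHom.comp_assoc, G₁.desc_inl, RingHom.comp_assoc, G₀.desc_inl,
      ← RingHom.comp_assoc, ← RingHom.comap_ker,
      (RingHom.injective_iff_ker_eq_bot (i₂.comp i₁)).1 (i₂.comp i₁).injective]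
    exact Ideal.ker_algebraMap_residueField _
  let i := G₁.inl.comp G₀.inr
  have e₁ : α.comp E.r₁ = i.comp h := by
    rw [RingHom.comp_assoc, G₀.comm, RingHom.comp_assoc]
  have e₂ : α.comp E.r₂ = G₁.inr.comp h := by rw [RingHom.comp_assoc, G₁.comm]
  have hrel' : E.Rel (i.comp h) (G₁.inr.comp h) := by
    rw [← e₁, ← e₂]
    exact ⟨α, rfl, rfl⟩
  have key : ∀ (m m' : P.P →+* G₁.P), E.Rel (m.comp h) (m'.comp h) →
      K'.map m ≤ K'.map m' := by
    intro m m' hr
    simp only [K', K, Ideal.map_iSup, Ideal.map_map, iSup_le_iff]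
    intro a
    refine le_trans (b := K.map (m'.comp P.inr))
      (LeAt.le_of_forall fun q => E.leAt_of_tup hinv hπ (m'.comp P.inr) _ ?_ q.asIdeal)
      (le_of_eq (by simp only [K, Ideal.map_iSup, Ideal.map_map, RingHom.comp_assoc]))
    show E.Rel ((m.comp P.inr).comp (π a)) (m'.comp (P.inr.comp (π 0)))
    exact ((((hπ.rel a 0).comp P.inr).trans' hrel.symm').comp m).trans'
      (hr.trans' (hrel.comp m'))
  have hm₁ : (J.map E.r₁).map α = K'.map i := by
    rw [Ideal.map_map, e₁, ← Ideal.map_map, hJh]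
  have hm₂ : (J.map E.r₂).map α = K'.map G₁.inr := by
    rw [Ideal.map_map, e₂, ← Ideal.map_map, hJh]
  -- reflect along the flat map `α`
  have refl : ∀ I I' : Ideal C, I.map α ≤ I'.map α → LeAt c.asIdeal I I' := by
    intro I I' hII x hx
    by_contra hne
    push Not at hne
    letI := α.toAlgebra
    haveI : Module.Flat C G₁.P := hαflat
    let φ : C →ₗ[C] C ⧸ I' := LinearMap.toSpanSingleton C _ (Ideal.Quotient.mk I' x)
    have h1 : φ 1 ⊗ₜ[C] (1 : G₁.P) = 0 := by
      show ((1 : C) • Ideal.Quotient.mk I' x) ⊗ₜ[C] (1 : G₁.P) = 0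
      rw [one_smul, show Ideal.Quotient.mk I' x = x • (1 : C ⧸ I') from by
        rw [Algebra.smul_def, mul_one]; rfl, TensorProduct.smul_tmul]
      refine (Submodule.span_induction (p := fun y _ => (1 : C ⧸ I') ⊗ₜ[C] y = 0) ?_ ?_ ?_ ?_
        (show x • (1 : G₁.P) ∈ I'.map α by
          rw [Algebra.smul_def, mul_one]; exact hII (Ideal.mem_map_of_mem α hx)))
      · rintro _ ⟨y, hy, rfl⟩
        rw [show α y = y • (1 : G₁.P) from by rw [Algebra.smul_def, mul_one]; rfl,
          ← TensorProduct.smul_tmul, show y • (1 : C ⧸ I') = 0 from by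
            rw [Algebra.smul_def, mul_one]; exact Ideal.Quotient.eq_zero_iff_mem.2 hy,
          TensorProduct.zero_tmul]
      · exact TensorProduct.tmul_zero _ _
      · intro y y' _ _ hy hy'
        rw [TensorProduct.tmul_add, hy, hy', add_zero]
      · intro a y _ hy
        have := congrArg (LinearMap.lTensor (C ⧸ I') (LinearMap.mulLeft C a)) hy
        simpa using this
    have hle : LinearMap.ker φ ≤ c.asIdeal := fun t ht => by
      by_contra htc
      refine hne t htc ?_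
      rw [← Ideal.Quotient.eq_zero_iff_mem, map_mul]
      exact ht
    have h2 : (1 : G₁.P) ∈ zc.asIdeal := by
      have := Ideal.map_mono (f := α) hle (mem_map_of_tmul_eq_zero φ h1)
      rw [← hzc] at this
      exact Ideal.map_comap_le this
    exact zc.isPrime.ne_top ((Ideal.eq_top_iff_one _).2 h2)
  constructor
  · exact refl _ _ (by rw [hm₁, hm₂]; exact key _ _ hrel')
  · exact refl _ _ (by rw [hm₁, hm₂]; exact key _ _ hrel'.symm')

theorem exists_invOn (N : Ideal B) (hN : N.map E.r₁ = N.map E.r₂) (k : ℕ) : ∀ J₁ : Ideal B,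
    J₁.FG → J₁ ≤ N → ∃ J, J.FG ∧ J ≤ N ∧ J₁ ≤ J ∧ E.InvOn k J := by
  obtain ⟨d, hd⟩ := E.exists_D_eq_empty
  suffices H : ∀ m k, d ≤ k + m → ∀ J₁ : Ideal B, J₁.FG → J₁ ≤ N →
      ∃ J, J.FG ∧ J ≤ N ∧ J₁ ≤ J ∧ E.InvOn k J from H d k le_add_self
  intro m
  induction m with
  | zero =>
    intro k hk J₁ h₁ h₂
    refine ⟨J₁, h₁, h₂, le_rfl, fun c hc => ?_⟩
    have := antitone_nat_of_succ_le (f := E.D) E.D_succ_subset (show d ≤ k by omega) hc
    rw [hd] at this
    exact this.elim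
  | succ m ih =>
    intro k hk
    exact E.step N hN (ih (k + 1) (by omega))

/-- Every finitely generated ideal in an invariant ideal `N` lies in an invariant finitely generated
ideal in `N`. -/
theorem exists_invariant (N : Ideal B) (hN : N.map E.r₁ = N.map E.r₂) (J₁ : Ideal B) (h₁ : J₁.FG)
    (h₂ : J₁ ≤ N) : ∃ J, J.FG ∧ J ≤ N ∧ J₁ ≤ J ∧ J.map E.r₁ = J.map E.r₂ := by
  obtain ⟨J, hfg, hnil, hle, hinv⟩ := E.exists_invOn N hN 0 J₁ h₁ h₂
  exact ⟨J, hfg, hnil, hle, le_antisymm
    (LeAt.le_of_forall fun c => (hinv c (E.mem_D_zero _)).1)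
    (LeAt.le_of_forall fun c => (hinv c (E.mem_D_zero _)).2)⟩

end EtRel

end Groth.Agent.Lib.AffThick
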