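import Groth.Agent.Lib.AffThick.Step
import Groth.Agent.Lib.AffThick.Strata
import Groth.Agent.Lib.AffThick.NilIso
import Groth.Agent.Lib.AffThick.Model

/-!
# Functions on a thickened affine quotient

Let `E` be an affine etale equivalence relation on `Spec B` restricting, on the thickened closed
subscheme `Spec Bb`, to the relation of a faithfully flat etale algebra `A → Bb`. Then every element
of `A` lifts to an element of `B` equalized by the relation.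
-/

set_option autoImplicit false
set_option linter.style.haveILetI false

universe u

open TensorProduct

namespace Groth.Agent.Lib.AffThick

/-- An element of an extended ideal lies in the extension of a finitely generated subideal. -/
theorem exists_fg_subideal {R S : Type u} [CommRing R] [CommRing S] (f : R →+* S) (I : Ideal R)
    {x : S} (hx : x ∈ I.map f) : ∃ J : Ideal R, J.FG ∧ J ≤ I ∧ x ∈ J.map f := by
  obtain ⟨t, ht, hxt⟩ := Submodule.mem_span_finite_of_mem_span hx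
  classical
  obtain ⟨t', ht', rfl⟩ := Finset.subset_set_image_iff.1 ht
  refine ⟨Ideal.span (t' : Set R), ⟨t', rfl⟩, Ideal.span_le.2 ht', ?_⟩
  rw [Ideal.map_span]
  simpa using hxt

/-- A ring map out of a tensor product from two compatible ring maps. -/
theorem exists_liftHom {R K M L : Type u} [CommRing R] [CommRing K] [CommRing M] [CommRing L]
    [Algebra R K] [Algebra R M] (f : K →+* L) (g : M →+* L)
    (h : ∀ r, f (algebraMap R K r) = g (algebraMap R M r)) :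
    ∃ φ : K ⊗[R] M →+* L, ∀ k m, φ (k ⊗ₜ m) = f k * g m :=
  letI : Algebra R L := (f.comp (algebraMap R K)).toAlgebra
  ⟨(Algebra.TensorProduct.lift (R := R) (S := R) (⟨f, fun _ => rfl⟩ : K →ₐ[R] L)
    (⟨g, fun r => (h r).symm⟩ : M →ₐ[R] L) fun _ _ => .all _ _).toRingHom, fun _ _ => rfl⟩

theorem exists_lift {B C A Bb : Type u} [CommRing B] [CommRing C] [CommRing A] [CommRing Bb]
    (E : EtRel B C) [Algebra A Bb] [Algebra.Etale A Bb] [Module.FaithfullyFlat A Bb]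
    (π : B →+* Bb) (hπ : Function.Surjective π) (hπn : RingHom.ker π ≤ nilradical B)
    (πC : C →+* Bb ⊗[A] Bb) (hπC : Function.Surjective πC)
    (hkerC : RingHom.ker πC = (RingHom.ker π).map E.r₁)
    (hC₁ : ∀ b, πC (E.r₁ b) = π b ⊗ₜ 1) (hC₂ : ∀ b, πC (E.r₂ b) = 1 ⊗ₜ π b) (a : A) :
    ∃ b, E.r₁ b = E.r₂ b ∧ π b = algebraMap A Bb a := by
  have hN : (RingHom.ker π).map E.r₁ = (RingHom.ker π).map E.r₂ := by
    have hle : (RingHom.ker π).map E.r₂ ≤ (RingHom.ker π).map E.r₁ := by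
      rw [← hkerC, Ideal.map_le_iff_le_comap]
      intro x hx
      show πC (E.r₂ x) = 0
      rw [hC₂, show π x = 0 from hx, tmul_zero]
    obtain ⟨σ, hσ₁, hσ₂⟩ := E.symm (RingHom.id C)
    refine le_antisymm ?_ hle
    have h := Ideal.map_mono (f := σ) hle
    rwa [Ideal.map_map, Ideal.map_map, hσ₁, hσ₂, RingHom.id_comp, RingHom.id_comp] at h
  obtain ⟨A₁, B₁, _, _, _, _, het₁, hff₁, hfp₁, hft₁, ⟨a₁, ha₁⟩, ⟨e⟩⟩ := exists_model (Bb := Bb) a
  letI : Algebra A₁ Bb := ((algebraMap A Bb).comp (algebraMap A₁ A)).toAlgebra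
  haveI : IsScalarTower A₁ A Bb := IsScalarTower.of_algebraMap_eq fun _ => rfl
  let f : B₁ →+* Bb := e.symm.toRingEquiv.toRingHom.comp
    (Algebra.TensorProduct.includeRight : B₁ →ₐ[A₁] A ⊗[A₁] B₁).toRingHom
  have hfA : ∀ x, f (algebraMap A₁ B₁ x) = algebraMap A₁ Bb x := by
    intro x
    show e.symm (1 ⊗ₜ algebraMap A₁ B₁ x) = algebraMap A Bb (algebraMap A₁ A x)
    rw [← e.symm.commutes]
    congr 1
    rw [Algebra.algebraMap_eq_smul_one, ← smul_tmul, ← Algebra.algebraMap_eq_smul_one]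
    rfl
  obtain ⟨J₀, hJ₀fg, hJ₀le, hlift⟩ := exists_fg_lift π hπ f
  obtain ⟨g₀, hg₀⟩ := hlift J₀ le_rfl
  -- generators of `A₁` are equalized modulo a finitely generated subideal
  obtain ⟨gens, hgens⟩ := hft₁.out
  choose c hc using fun x : A₁ => Ideal.Quotient.mk_surjective (g₀ (algebraMap A₁ B₁ x))
  have hπc : ∀ x, π (c x) = algebraMap A₁ Bb x := fun x =>
    (hg₀ _ _ (hc x).symm hJ₀le).trans (hfA x)
  have hd : ∀ x, E.r₁ (c x) - E.r₂ (c x) ∈ (RingHom.ker π).map E.r₁ := fun x => by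
    rw [← hkerC, RingHom.mem_ker, map_sub, hC₁, hC₂, hπc, sub_eq_zero]
    show algebraMap A Bb _ ⊗ₜ[A] (1 : Bb) = 1 ⊗ₜ algebraMap A Bb _
    rw [Algebra.algebraMap_eq_smul_one, smul_tmul]
  choose F hF₁ hF₂ hF₃ using fun x => exists_fg_subideal E.r₁ _ (hd x)
  obtain ⟨J, hJfg, hJN, hJle, hJinv⟩ := E.exists_invariant _ hN (J₀ ⊔ ⨆ x ∈ gens, F x)
    (Submodule.FG.sup hJ₀fg (Submodule.fg_biSup gens _ fun x _ => hF₁ x))
    (sup_le hJ₀le (iSup₂_le fun x _ => hF₂ x))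
  obtain ⟨n, hn⟩ := (Ideal.FG.isNilpotent_iff_le_nilradical hJfg).2 (hJN.trans hπn)
  have hJ₀J : J₀ ≤ J := le_sup_left.trans hJle
  let g : B₁ →+* B ⧸ J := (Ideal.Quotient.factor hJ₀J).comp g₀
  have hπg : ∀ x b, g x = Ideal.Quotient.mk J b → π b = f x := by
    intro x b h
    obtain ⟨b₀, hb₀⟩ := Ideal.Quotient.mk_surjective (g₀ x)
    rw [← hg₀ x b₀ hb₀.symm hJ₀le]
    have h' : Ideal.Quotient.mk J b₀ = Ideal.Quotient.mk J b := by
      rw [← h, RingHom.comp_apply, ← hb₀, Ideal.Quotient.factor_mk]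
    have := hJN (Ideal.Quotient.eq.1 h')
    rw [RingHom.mem_ker, map_sub, sub_eq_zero] at this
    exact this.symm
  letI : Algebra A₁ (B ⧸ J) := (g.comp (algebraMap A₁ B₁)).toAlgebra
  -- the relation modulo `J`
  letI := E.r₁.toAlgebra
  haveI : Algebra.Etale B C := E.et
  let P0 := B ⧸ J
  let β : P0 →+* P0 ⊗[B] C := Ideal.Quotient.lift J
    ((Algebra.TensorProduct.includeRight : C →ₐ[B] P0 ⊗[B] C).toRingHom.comp E.r₂) (fun x hx => by
      have h : E.r₂ x ∈ J.map (algebraMap B C) := by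
        show E.r₂ x ∈ J.map E.r₁
        rw [hJinv]; exact Ideal.mem_map_of_mem _ hx
      show (1 : P0) ⊗ₜ[B] E.r₂ x = 0
      rw [← Algebra.TensorProduct.quotIdealMapEquivQuotTensor_mk,
        Ideal.Quotient.eq_zero_iff_mem.2 h, map_zero])
  have hsame : ∀ (x : A₁) (b : B), Ideal.Quotient.mk J b = algebraMap A₁ P0 x →
      E.r₂ b - E.r₁ b ∈ J.map E.r₁ := by
    let R₁ : P0 →+* C ⧸ J.map E.r₁ := Ideal.quotientMap _ E.r₁ Ideal.le_comap_map
    let R₂ : P0 →+* C ⧸ J.map E.r₁ := Ideal.quotientMap _ E.r₂ (by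
      rw [hJinv]; exact Ideal.le_comap_map)
    have heq : (R₂.comp (algebraMap A₁ P0)).toIntAlgHom = (R₁.comp (algebraMap A₁ P0)).toIntAlgHom := by
      refine AlgHom.ext_of_adjoin_eq_top hgens fun x hx => ?_
      show R₂ (g (algebraMap A₁ B₁ x)) = R₁ (g (algebraMap A₁ B₁ x))
      rw [RingHom.comp_apply, ← hc, Ideal.Quotient.factor_mk, Ideal.quotientMap_mk,
        Ideal.quotientMap_mk, Ideal.Quotient.eq]
      have h := Ideal.map_mono (f := E.r₁) ((le_iSup₂ (f := fun x (_ : x ∈ gens) => F x) x hx).trans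
        (le_sup_right.trans hJle)) (hF₃ x)
      simpa using neg_mem h
    intro x b hb
    have h := AlgHom.congr_fun heq x
    change R₂ (algebraMap A₁ P0 x) = R₁ (algebraMap A₁ P0 x) at h
    rw [← hb, Ideal.quotientMap_mk, Ideal.quotientMap_mk, Ideal.Quotient.eq] at h
    exact h
  have hβA : ∀ x : A₁, β (algebraMap A₁ P0 x) = algebraMap A₁ (P0 ⊗[B] C) x := by
    intro x
    obtain ⟨b, hb⟩ := Ideal.Quotient.mk_surjective (algebraMap A₁ P0 x)
    rw [← hb]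
    show (1 : P0) ⊗ₜ[B] E.r₂ b = algebraMap A₁ P0 x ⊗ₜ 1
    rw [← hb, show Ideal.Quotient.mk J b = b • (1 : P0) by rw [Algebra.smul_def, mul_one]; rfl,
      smul_tmul, show b • (1 : C) = E.r₁ b by rw [Algebra.smul_def, mul_one]; rfl, ← sub_eq_zero,
      ← tmul_sub, ← Algebra.TensorProduct.quotIdealMapEquivQuotTensor_mk,
      (Ideal.Quotient.eq_zero_iff_mem (I := J.map (algebraMap B C))).2 (hsame x b hb), map_zero]
  choose ψ hψ using fun x : B₁ => Ideal.Quotient.mk_surjective (g x)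
  let χ : B₁ →ₐ[A₁] P0 ⊗[B] C := ⟨β.comp g, fun x => hβA x⟩
  have hχ : ∀ x, χ x = 1 ⊗ₜ E.r₂ (ψ x) := fun x => by
    show β (g x) = _
    rw [← hψ]
    rfl
  let Θ₁ : P0 ⊗[A₁] B₁ →ₐ[P0] P0 ⊗[B] C :=
    Algebra.TensorProduct.lift (Algebra.ofId P0 _) χ fun _ _ => .all _ _
  have hΘ₁ : ∀ x, Θ₁ (1 ⊗ₜ x) = 1 ⊗ₜ E.r₂ (ψ x) := fun x => by
    rw [← hχ]; simp [Θ₁]
  -- bijectivity modulo the nil ideal
  let πb : P0 →ₐ[A₁] Bb := ⟨Ideal.Quotient.lift J π (fun x hx => RingHom.mem_ker.1 (hJN hx)), fun x => by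
    obtain ⟨b, hb⟩ := Ideal.Quotient.mk_surjective (algebraMap A₁ P0 x)
    rw [← hb]
    show π b = _
    rw [hπg _ _ hb.symm, hfA]⟩
  let ρ : P0 ⊗[B] C →+* Bb ⊗[A] Bb :=
    letI := (πC.comp E.r₁).toAlgebra
    (Algebra.TensorProduct.lift
      (⟨(Algebra.TensorProduct.includeLeftRingHom : Bb →+* Bb ⊗[A] Bb).comp πb.toRingHom,
        fun b => (hC₁ b).symm⟩ : P0 →ₐ[B] Bb ⊗[A] Bb)
      (⟨πC, fun _ => rfl⟩ : C →ₐ[B] Bb ⊗[A] Bb) fun _ _ => .all _ _).toRingHom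
  have hρ1 : ∀ z, ρ (1 ⊗ₜ z) = πC z := fun z => by
    show (πb 1 ⊗ₜ[A] (1 : Bb)) * πC z = πC z
    rw [map_one]
    exact one_mul _
  have hρs : Function.Surjective ρ := fun z => by
    obtain ⟨z, rfl⟩ := hπC z
    exact ⟨_, hρ1 z⟩
  have hρn : RingHom.ker ρ ≤ nilradical (P0 ⊗[B] C) := by
    intro z hz
    obtain ⟨c', rfl⟩ := Algebra.TensorProduct.includeRight_surjective C
      (show Function.Surjective (algebraMap B P0) from Ideal.Quotient.mk_surjective) z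
    rw [RingHom.mem_ker] at hz
    change ρ (1 ⊗ₜ c') = 0 at hz
    rw [hρ1, ← RingHom.mem_ker, hkerC] at hz
    refine IsNilpotent.map ?_ (Algebra.TensorProduct.includeRight : C →ₐ[B] P0 ⊗[B] C)
    refine mem_nilradical.1 ((Ideal.map_mono hπn).trans ?_ hz)
    rw [Ideal.map_le_iff_le_comap]
    exact fun x hx => IsNilpotent.map hx _
  have hbij : Function.Bijective Θ₁ := by
    let μ : P0 ⊗[A₁] B₁ →ₐ[A₁] Bb ⊗[A₁] B₁ := Algebra.TensorProduct.map πb (AlgHom.id A₁ B₁)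
    let ε : Bb ⊗[A₁] B₁ ≃ₐ[Bb] Bb ⊗[A] Bb :=
      (Algebra.TensorProduct.cancelBaseChange A₁ A Bb Bb B₁).symm.trans
        (Algebra.TensorProduct.congr AlgEquiv.refl e.symm)
    have hcomp : ρ.comp Θ₁.toRingHom = ε.toRingEquiv.toRingHom.comp μ.toRingHom := by
      refine RingHom.ext fun z => ?_
      induction z using TensorProduct.induction_on with
      | zero => simp
      | add u v hu hv => rw [map_add, map_add, hu, hv]
      | tmul p x =>
        obtain ⟨b, rfl⟩ := Ideal.Quotient.mk_surjective p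
        show ρ (Θ₁ (Ideal.Quotient.mk J b ⊗ₜ x)) = ε (πb (Ideal.Quotient.mk J b) ⊗ₜ x)
        have h1 : Θ₁ (Ideal.Quotient.mk J b ⊗ₜ x) = (Ideal.Quotient.mk J b ⊗ₜ[B] (1 : C)) * χ x := by
          simp [Θ₁]
        rw [h1, map_mul, hχ, hρ1, hC₂, hπg _ _ (hψ x).symm]
        show (πb (Ideal.Quotient.mk J b) ⊗ₜ[A] (1 : Bb) * πC 1) * (1 ⊗ₜ f x) = _
        rw [map_one, mul_one, Algebra.TensorProduct.tmul_mul_tmul, mul_one, one_mul]
        simp [ε, f]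
    have hμs : Function.Surjective μ := TensorProduct.map_surjective
      (Ideal.Quotient.lift_surjective_of_surjective J (fun x hx => RingHom.mem_ker.1 (hJN hx)) hπ) Function.surjective_id
    refine bijective_of_thickening Θ₁ ρ hρs hρn ?_ ?_
    · rw [hcomp]; exact ε.surjective.comp hμs
    · rw [hcomp, RingHom.ker_comp_of_injective _ ε.injective]
      refine le_trans (le_of_eq (Algebra.TensorProduct.rTensor_ker πb
        (Ideal.Quotient.lift_surjective_of_surjective J (fun x hx => RingHom.mem_ker.1 (hJN hx)) hπ))) ?_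
      rw [Ideal.map_le_iff_le_comap]
      intro p hp
      obtain ⟨b, rfl⟩ := Ideal.Quotient.mk_surjective p
      exact IsNilpotent.map (IsNilpotent.map (mem_nilradical.1 (hπn hp)) (Ideal.Quotient.mk J)) _
  let θ₁ : P0 ⊗[A₁] B₁ ≃ₐ[P0] P0 ⊗[B] C := AlgEquiv.ofBijective Θ₁ hbij
  -- the triple
  let Dp := Push.mk' E.r₂ E.r₁
  letI : Algebra B Dp.P := (Dp.inl.comp E.r₁).toAlgebra
  obtain ⟨m, hm₁, hm₂⟩ := E.trans Dp.inl Dp.inr Dp.comm
  let q₁₂ : C →ₐ[B] Dp.P := ⟨Dp.inl, fun _ => rfl⟩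
  let q₁₃ : C →ₐ[B] Dp.P := ⟨m, fun b => RingHom.congr_fun hm₁ b⟩
  haveI : Algebra.Etale B Dp.P :=
    RingHom.Etale.stableUnderComposition _ _ E.et (Dp.etale_inl E.et)
  let χ12 : B₁ →ₐ[A₁] P0 ⊗[B] Dp.P :=
    ((Algebra.TensorProduct.map (AlgHom.id P0 P0) q₁₂).restrictScalars A₁).comp χ
  let χ13 : B₁ →ₐ[A₁] P0 ⊗[B] Dp.P :=
    ((Algebra.TensorProduct.map (AlgHom.id P0 P0) q₁₃).restrictScalars A₁).comp χ
  let Θ₂ : P0 ⊗[A₁] (B₁ ⊗[A₁] B₁) →ₐ[P0] P0 ⊗[B] Dp.P :=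
    Algebra.TensorProduct.lift (Algebra.ofId P0 _)
      (Algebra.TensorProduct.lift χ12 χ13 fun _ _ => .all _ _) fun _ _ => .all _ _
  have hΘ₂ : ∀ x y, Θ₂ (1 ⊗ₜ (x ⊗ₜ y)) = 1 ⊗ₜ (q₁₂ (E.r₂ (ψ x)) * q₁₃ (E.r₂ (ψ y))) := by
    intro x y
    simp [Θ₂, χ12, χ13, hχ]
  have hbij₂ : Function.Bijective Θ₂ := by
    let ιL : P0 ⊗[A₁] B₁ →ₐ[P0] P0 ⊗[A₁] (B₁ ⊗[A₁] B₁) :=
      Algebra.TensorProduct.map (AlgHom.id P0 P0) Algebra.TensorProduct.includeLeft
    have hιL : ∀ z, Θ₂ (ιL z) = Algebra.TensorProduct.map (AlgHom.id P0 P0) q₁₂ (θ₁ z) := by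
      intro z
      refine AlgHom.congr_fun (show Θ₂.comp ιL = (Algebra.TensorProduct.map (AlgHom.id P0 P0) q₁₂).comp Θ₁ from ?_) z
      refine Algebra.TensorProduct.ext (by ext) (AlgHom.ext fun x => ?_)
      simp [Θ₂, Θ₁, ιL, χ12, χ13]
    let u₁ : C →+* P0 ⊗[A₁] (B₁ ⊗[A₁] B₁) := (ιL.toRingHom.comp θ₁.symm.toRingEquiv.toRingHom).comp
      (Algebra.TensorProduct.includeRight : C →ₐ[B] P0 ⊗[B] C).toRingHom
    let γ : P0 →+* P0 ⊗[A₁] (B₁ ⊗[A₁] B₁) :=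
      (ιL.toRingHom.comp θ₁.symm.toRingEquiv.toRingHom).comp β
    have hγA : ∀ x : A₁, γ (algebraMap A₁ P0 x) = algebraMap A₁ _ x := fun x => by
      show ιL (θ₁.symm (β (algebraMap A₁ P0 x))) = _
      rw [hβA, IsScalarTower.algebraMap_apply A₁ P0 (P0 ⊗[B] C), AlgEquiv.commutes, AlgHom.commutes,
        ← IsScalarTower.algebraMap_apply]
    let Φ : P0 ⊗[A₁] B₁ →ₐ[A₁] P0 ⊗[A₁] (B₁ ⊗[A₁] B₁) :=
      Algebra.TensorProduct.lift (⟨γ, hγA⟩ : P0 →ₐ[A₁] _)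
        ((Algebra.TensorProduct.includeRight : B₁ ⊗[A₁] B₁ →ₐ[A₁] _).comp
          Algebra.TensorProduct.includeRight) fun _ _ => .all _ _
    let u₂ : C →+* P0 ⊗[A₁] (B₁ ⊗[A₁] B₁) := (Φ.toRingHom.comp θ₁.symm.toRingEquiv.toRingHom).comp
      (Algebra.TensorProduct.includeRight : C →ₐ[B] P0 ⊗[B] C).toRingHom
    have hbase : ∀ b, (1 : P0) ⊗ₜ[B] E.r₁ b = algebraMap P0 (P0 ⊗[B] C) (Ideal.Quotient.mk J b) := by
      intro b
      show (1 : P0) ⊗ₜ[B] algebraMap B C b = Ideal.Quotient.mk J b ⊗ₜ[B] (1 : C)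
      rw [Algebra.algebraMap_eq_smul_one, ← smul_tmul, Algebra.smul_def, mul_one]
      rfl
    have hcompat : u₁.comp E.r₂ = u₂.comp E.r₁ := by
      refine RingHom.ext fun b => ?_
      show ιL (θ₁.symm (β (Ideal.Quotient.mk J b))) = Φ (θ₁.symm ((1 : P0) ⊗ₜ[B] E.r₁ b))
      rw [hbase, AlgEquiv.commutes]
      simp [Φ, γ, ← Algebra.TensorProduct.one_def]
    let Ψ₀ : Dp.P →+* P0 ⊗[A₁] (B₁ ⊗[A₁] B₁) := Dp.desc u₁ u₂ hcompat
    let ΨB : Dp.P →ₐ[B] P0 ⊗[A₁] (B₁ ⊗[A₁] B₁) := ⟨Ψ₀, fun b => by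
      show Ψ₀ (Dp.inl (E.r₁ b)) = _
      rw [← RingHom.comp_apply Ψ₀, Dp.desc_inl]
      show ιL (θ₁.symm ((1 : P0) ⊗ₜ[B] E.r₁ b)) = _
      rw [hbase, AlgEquiv.commutes, AlgHom.commutes]
      rfl⟩
    let Ψ : P0 ⊗[B] Dp.P →ₐ[P0] P0 ⊗[A₁] (B₁ ⊗[A₁] B₁) :=
      Algebra.TensorProduct.lift (Algebra.ofId P0 _) ΨB fun _ _ => .all _ _
    have hone : (1 : P0) ⊗ₜ[B] q₁₂ (E.r₂ (ψ 1)) = 1 := by
      have := congrArg (Algebra.TensorProduct.map (AlgHom.id P0 P0) q₁₂) ((hχ 1).symm.trans (map_one χ))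
      simpa using this
    refine Function.bijective_iff_has_inverse.2 ⟨Ψ, fun z => ?_, fun z => ?_⟩
    · refine AlgHom.congr_fun (show Ψ.comp Θ₂ = AlgHom.id P0 _ from ?_) z
      refine Algebra.TensorProduct.ext (by ext) (Algebra.TensorProduct.ext ?_ ?_)
      · refine AlgHom.ext fun x => ?_
        show Ψ (Θ₂ (1 ⊗ₜ (x ⊗ₜ 1))) = 1 ⊗ₜ (x ⊗ₜ 1)
        rw [show Θ₂ (1 ⊗ₜ (x ⊗ₜ 1)) = Θ₂ (ιL (1 ⊗ₜ x)) from rfl, hιL]
        show Ψ (Algebra.TensorProduct.map (AlgHom.id P0 P0) q₁₂ (Θ₁ (1 ⊗ₜ x))) = _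
        rw [hΘ₁, Algebra.TensorProduct.map_tmul]
        show algebraMap P0 _ 1 * Ψ₀ (Dp.inl (E.r₂ (ψ x))) = _
        rw [map_one, one_mul, ← RingHom.comp_apply Ψ₀, Dp.desc_inl]
        show ιL (θ₁.symm (1 ⊗ₜ E.r₂ (ψ x))) = _
        rw [← hΘ₁, AlgEquiv.ofBijective_symm_apply_apply]
        simp [ιL]
      · refine AlgHom.ext fun x => ?_
        show Ψ (Θ₂ (1 ⊗ₜ (1 ⊗ₜ x))) = 1 ⊗ₜ (1 ⊗ₜ x)
        have h : Θ₂ (1 ⊗ₜ (1 ⊗ₜ x)) = 1 ⊗ₜ Dp.inr (E.r₂ (ψ x)) := by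
          rw [← RingHom.comp_apply, ← hm₂]
          rw [hΘ₂, ← one_mul (1 : P0), ← Algebra.TensorProduct.tmul_mul_tmul, hone, one_mul, one_mul]
          rfl
        rw [h]
        show algebraMap P0 _ 1 * Ψ₀ (Dp.inr (E.r₂ (ψ x))) = _
        rw [map_one, one_mul, ← RingHom.comp_apply Ψ₀, Dp.desc_inr]
        show Φ (θ₁.symm (1 ⊗ₜ E.r₂ (ψ x))) = _
        rw [← hΘ₁, AlgEquiv.ofBijective_symm_apply_apply]
        simp [Φ]
    · refine AlgHom.congr_fun (show Θ₂.comp Ψ = AlgHom.id P0 _ from ?_) z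
      refine Algebra.TensorProduct.ext (by ext) (AlgHom.ext fun d => ?_)
      show Θ₂ (algebraMap P0 _ 1 * Ψ₀ d) = 1 ⊗ₜ d
      rw [map_one, one_mul]
      refine RingHom.congr_fun (show Θ₂.toRingHom.comp Ψ₀ =
        (Algebra.TensorProduct.includeRight : Dp.P →ₐ[B] P0 ⊗[B] Dp.P).toRingHom from ?_) d
      refine Push.hom_ext _ _ ?_ ?_
      · rw [RingHom.comp_assoc, Dp.desc_inl]
        refine RingHom.ext fun z => ?_
        show Θ₂ (ιL (θ₁.symm (1 ⊗ₜ z))) = 1 ⊗ₜ Dp.inl z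
        rw [hιL, AlgEquiv.apply_symm_apply]
        rfl
      · rw [RingHom.comp_assoc, Dp.desc_inr]
        let γ₂ : P0 →+* P0 ⊗[B] Dp.P :=
          (Algebra.TensorProduct.map (AlgHom.id P0 P0) q₁₂).toRingHom.comp β
        obtain ⟨ν, hν₀⟩ := exists_liftHom γ₂
          ((Algebra.TensorProduct.includeRight : Dp.P →ₐ[B] P0 ⊗[B] Dp.P).toRingHom.comp Dp.inr)
          (fun b => by
            show γ₂ (Ideal.Quotient.mk J b) =
              (Algebra.TensorProduct.includeRight : Dp.P →ₐ[B] P0 ⊗[B] Dp.P) ((Dp.inr.comp E.r₁) b)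
            rw [← Dp.comm]
            rfl)
        have hν : ∀ z, Θ₂ (Φ z) = ν (Θ₁ z) := by
          intro z
          induction z using TensorProduct.induction_on with
          | zero => simp
          | add p q hp hq => rw [map_add, map_add, map_add, map_add, hp, hq]
          | tmul p x =>
            have h1 : Φ (p ⊗ₜ x) = γ p * (1 ⊗ₜ (1 ⊗ₜ x)) := by simp [Φ]
            have h2 : Θ₁ (p ⊗ₜ x) = (p ⊗ₜ[B] (1 : C)) * (1 ⊗ₜ E.r₂ (ψ x)) := by
              rw [← hΘ₁]; simp [Θ₁]; rfl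
            rw [h1, h2, map_mul, map_mul, hΘ₂, hν₀, hν₀]
            show Θ₂ (ιL (θ₁.symm (β p))) * _ = _
            rw [hιL, AlgEquiv.apply_symm_apply]
            show γ₂ p * _ = _
            congr 1
            · simp [← Algebra.TensorProduct.one_def]
            · simp only [map_one, one_mul]
              show (1 : P0) ⊗ₜ[B] (q₁₂ (E.r₂ (ψ 1)) * q₁₃ (E.r₂ (ψ x))) =
                (1 : P0) ⊗ₜ[B] Dp.inr (E.r₂ (ψ x))
              rw [← one_mul (1 : P0), ← Algebra.TensorProduct.tmul_mul_tmul, hone, one_mul, one_mul,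
                ← RingHom.comp_apply Dp.inr, ← hm₂]
              rfl
        refine RingHom.ext fun z => ?_
        show Θ₂ (Φ (θ₁.symm (1 ⊗ₜ z))) = 1 ⊗ₜ Dp.inr z
        rw [hν, show Θ₁ (θ₁.symm (1 ⊗ₜ z)) = 1 ⊗ₜ z from θ₁.apply_symm_apply _]
        rw [hν₀, map_one, one_mul]
        rfl
  let θ₂ := AlgEquiv.ofBijective Θ₂ hbij₂
  -- improve along the powers of `J`
  have key : ∀ k, ∃ b, π b = algebraMap A Bb a ∧
      algebraMap B C b - E.r₂ b ∈ (J ^ (k + 1)).map (algebraMap B C) := by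
    intro k
    induction k with
    | zero =>
      obtain ⟨b, hb⟩ := Ideal.Quotient.mk_surjective (algebraMap A₁ P0 a₁)
      refine ⟨b, ?_, ?_⟩
      · rw [hπg _ _ hb.symm, hfA, ← ha₁]
        rfl
      · rw [zero_add, pow_one, ← neg_sub]
        exact neg_mem (hsame a₁ b hb)
    | succ k ih =>
      obtain ⟨b, hb₁, hb₂⟩ := ih
      obtain ⟨e', he, hcorr⟩ := Step.exists_correction E.r₂ q₁₂ q₁₃ Dp.inr
        (fun x => (RingHom.congr_fun Dp.comm x).symm) (fun x => (RingHom.congr_fun hm₂ x).symm)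
        J (J ^ (k + 2)) (J ^ (k + 1)) ψ θ₁ hΘ₁ θ₂ hΘ₂ hsame
        (by rw [pow_succ' J (k + 1)])
        (by rw [Ideal.map_pow, Ideal.map_pow, ← hJinv]; rfl)
        (by rw [Ideal.map_pow, Ideal.map_pow, ← hJinv]; rfl) b hb₂
      refine ⟨b - e', ?_, hcorr⟩
      rw [map_sub, hb₁, show π e' = 0 from hJN (Ideal.pow_le_self (by omega) he), sub_zero]
  obtain ⟨b, hb₁, hb₂⟩ := key n
  refine ⟨b, ?_, hb₁⟩
  rw [pow_succ, hn, Ideal.zero_eq_bot, Ideal.bot_mul, Ideal.map_bot, Ideal.mem_bot, sub_eq_zero] at hb₂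
  exact hb₂

end Groth.Agent.Lib.AffThick
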