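import Groth.Agent.Lib.AffThick.Scheme
import Groth.Agent.Lib.AlgSpMor.AffineDescent
import Mathlib.AlgebraicGeometry.Morphisms.Proper

/-!
# Representable, affine and integral morphisms and thickenings
-/

set_option autoImplicit false
set_option linter.style.haveILetI false

universe u

open CategoryTheory CategoryTheory.Limits AlgebraicGeometry
open AlgSp Groth.Agent.Lib.AlgSpace

namespace Groth.Agent.Lib.AffThick

variable {S : Scheme.{u}} {X X' Y Y' : Sp S} {i : X ⟶ X'} {j : Y ⟶ Y'} {f : X ⟶ Y} {f' : X' ⟶ Y'}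

/-- The fibres of a morphism of thickenings are thickenings. -/
theorem exists_fibre (hi : IsThickMor i) (w : i ≫ f' = f ≫ j) {T T₀ : Over S}
    {ξ : (yon S).obj T ⟶ Y'} {η : (yon S).obj T₀ ⟶ Y} {v : T₀ ⟶ T}
    (sq : IsPullback η ((yon S).map v) j ξ) :
    ∃ k : pullback f η ⟶ pullback f' ξ,
      IsThickMor k ∧ k ≫ pullback.snd f' ξ = pullback.snd f η ≫ (yon S).map v := by
  have sqo : IsPullback (pullback.fst f η) (pullback.snd f η ≫ (yon S).map v) (i ≫ f') ξ := by
    rw [w]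
    exact (IsPullback.of_hasPullback f η).paste_vert sq
  let k : pullback f η ⟶ pullback f' ξ :=
    pullback.lift (pullback.fst f η ≫ i) (pullback.snd f η ≫ (yon S).map v)
      (by rw [Category.assoc, sqo.w])
  have sqk : IsPullback (pullback.fst f η) k i (pullback.fst f' ξ) := by
    refine IsPullback.of_bot (h₁₁ := pullback.fst f η) ?_ (pullback.lift_fst _ _ _).symm
      (IsPullback.of_hasPullback f' ξ)
    rw [pullback.lift_snd]
    exact sqo
  exact ⟨k, repWith_baseChange sqk hi, pullback.lift_snd _ _ _⟩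

theorem exists_pullback_scheme (hX' : IsAlgSpace X') (hY' : IsAlgSpace Y') (hi : IsThickMor i)
    (hj : IsThickMor j) (w : i ≫ f' = f ≫ j) (hf : Representable f) {T : Over S}
    (ξ : (yon S).obj T ⟶ Y') :
    ∃ (T₀ W₀ W : Over S) (η : (yon S).obj T₀ ⟶ Y) (v : T₀ ⟶ T) (fst₀ : (yon S).obj W₀ ⟶ X)
      (g₀ : W₀ ⟶ T₀) (fst : (yon S).obj W ⟶ X') (g : W ⟶ T) (k : W₀ ⟶ W),
      IsPullback η ((yon S).map v) j ξ ∧ IsClosedImmersion v.left ∧ Surjective v.left ∧
      IsPullback fst₀ ((yon S).map g₀) f η ∧ IsPullback fst ((yon S).map g) f' ξ ∧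
      IsClosedImmersion k.left ∧ Surjective k.left ∧ k ≫ g = g₀ ≫ v := by
  obtain ⟨T₀, v, η, sq, hv⟩ := repWith_exists hj ξ
  obtain ⟨k, hk, hkv⟩ := exists_fibre hi w sq
  obtain ⟨W₀, g₀, e₀, he₀⟩ := exists_iso_yon_of_representable hf (IsPullback.of_hasPullback f η)
  have hP : IsAlgSpace (pullback f' ξ) :=
    isAlgSpace_of_isPullback (IsPullback.of_hasPullback f' ξ) hY'.diag hX' (IsAlgSpace.yon_obj T)
  obtain ⟨W, ⟨e⟩⟩ := exists_scheme hP hk e₀
  obtain ⟨g, hg⟩ := (yon S).map_surjective (e.hom ≫ pullback.snd f' ξ)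
  obtain ⟨k', hk'⟩ := (yon S).map_surjective (e₀.hom ≫ k ≫ e.inv)
  have hkt : IsThickMor ((yon S).map k') := by
    rw [hk']
    exact (repWith_iso_comp_iff thick e₀.hom _).2 ((repWith_comp_iso_iff thick k e.inv).2 hk)
  have hk'' := (isThickMor_yon_map_iff k').1 hkt
  refine ⟨T₀, W₀, W, η, v, e₀.hom ≫ pullback.fst f η, g₀, e.hom ≫ pullback.fst f' ξ, g, k', sq,
    hv.1, hv.2, ?_, ?_, hk''.1, hk''.2, (yon S).map_injective ?_⟩
  · rw [← he₀]
    exact (IsPullback.of_hasPullback f η).of_iso e₀.symm (Iso.refl _) (Iso.refl _) (Iso.refl _)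
      (by simp) (by simp) (by simp) (by simp)
  · rw [hg]
    exact (IsPullback.of_hasPullback f' ξ).of_iso e.symm (Iso.refl _) (Iso.refl _) (Iso.refl _)
      (by simp) (by simp) (by simp) (by simp)
  · rw [Functor.map_comp, Functor.map_comp, hk', hg, Category.assoc, Category.assoc,
      e.inv_hom_id_assoc, hkv, ← he₀, Category.assoc]

/-- Restricting `f'` to a test scheme of `Y`. -/
theorem exists_pullback_restrict (hi : IsThickMor i) (hj : IsThickMor j) (w : i ≫ f' = f ≫ j)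
    {T W : Over S} {η : (yon S).obj T ⟶ Y} {fst : (yon S).obj W ⟶ X'} {g : W ⟶ T}
    (sqW : IsPullback fst ((yon S).map g) f' (η ≫ j)) :
    ∃ (W₀ : Over S) (fst₀ : (yon S).obj W₀ ⟶ X) (k : W₀ ⟶ W),
      IsPullback fst₀ ((yon S).map (k ≫ g)) f η ∧ IsClosedImmersion k.left ∧ Surjective k.left := by
  have := AlgSpFormal.ThickTopo.mono_of_thick hj
  have sq : IsPullback η ((yon S).map (𝟙 T)) j (η ≫ j) := by
    rw [CategoryTheory.Functor.map_id]
    exact (IsPullback.of_vert_isIso_mono (by simp))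
  obtain ⟨k, hk, hkv⟩ := exists_fibre hi w sq
  let e := sqW.isoPullback
  have hk' : RepWith thick (k ≫ e.inv) := (repWith_comp_iso_iff thick k e.inv).2 hk
  obtain ⟨W₀, u, fst₁, sq₁, hu⟩ := repWith_exists hk' (𝟙 ((yon S).obj W))
  have : IsIso fst₁ := sq₁.isIso_fst_of_isIso
  refine ⟨W₀, fst₁ ≫ pullback.fst f η, u, ?_, hu.1, hu.2⟩
  refine (IsPullback.of_hasPullback f η).of_iso (asIso fst₁).symm (Iso.refl _) (Iso.refl _)
    (Iso.refl _) (by simp) ?_ (by simp) (by simp)
  have h := sq₁.w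
  rw [Category.comp_id] at h
  rw [CategoryTheory.Functor.map_id, Category.comp_id] at hkv
  simp only [Iso.symm_hom, asIso_inv, Iso.refl_hom, Category.comp_id, IsIso.eq_inv_comp]
  rw [Functor.map_comp, ← h, Category.assoc, ← hkv, Category.assoc]
  simp [e]

theorem representable_iff (hX' : IsAlgSpace X') (hY' : IsAlgSpace Y') (hi : IsThickMor i)
    (hj : IsThickMor j) (w : i ≫ f' = f ≫ j) : Representable f ↔ Representable f' := by
  refine ⟨fun hf T ξ => ?_, fun hf T η => ?_⟩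
  · obtain ⟨-, -, W, -, -, -, -, fst, g, -, -, -, -, -, sqW, -⟩ :=
      exists_pullback_scheme hX' hY' hi hj w hf ξ
    exact ⟨W, g, fst, sqW⟩
  · obtain ⟨W₀, fst₀, k, sq, -⟩ := exists_pullback_restrict hi hj w (hf.isPullback (η ≫ j))
    exact ⟨W₀, _, fst₀, sq⟩

theorem affine_iff (hX' : IsAlgSpace X') (hY' : IsAlgSpace Y') (hi : IsThickMor i)
    (hj : IsThickMor j) (w : i ≫ f' = f ≫ j) :
    AlgSp.IsAffineMor f ↔ AlgSp.IsAffineMor f' := by
  refine ⟨fun hf T hT ξ => ?_, fun hf T hT η => ?_⟩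
  · have hrep := AlgSpMor.AffineDescent.repWith_of_isAffineMor hf
    obtain ⟨T₀, W₀, W, η, v, fst₀, g₀, fst, g, k, sq, hv, -, sq₀, sqW, hk, hks, hkg⟩ :=
      exists_pullback_scheme hX' hY' hi hj w hrep.1 ξ
    have : IsAffineHom g₀.left := repWith_property hrep sq₀
    have : IsAffine T₀.left := isAffine_of_isAffineHom v.left
    have : IsAffine W₀.left := isAffine_of_isAffineHom g₀.left
    exact ⟨W, g, fst, sqW, Lim.Thickening.isAffine_of_surjective k.left⟩
  · obtain ⟨W, g, fst, sqW, hW⟩ := hf hT (η ≫ j)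
    obtain ⟨W₀, fst₀, k, sq, hk, -⟩ := exists_pullback_restrict hi hj w sqW
    exact ⟨W₀, _, fst₀, sq, isAffine_of_isAffineHom k.left⟩

theorem integral_iff (hX' : IsAlgSpace X') (hY' : IsAlgSpace Y') (hi : IsThickMor i)
    (hj : IsThickMor j) (w : i ≫ f' = f ≫ j) :
    AlgSp.IsIntegralMor f ↔ AlgSp.IsIntegralMor f' := by
  refine ⟨fun hf T hT ξ => ?_, fun hf T hT η => ?_⟩
  · have hrep := AlgSpMor.AffineDescent.isIntegralMor_iff.1 hf
    obtain ⟨T₀, W₀, W, η, v, fst₀, g₀, fst, g, k, sq, hv, -, sq₀, sqW, hk, hks, hkg⟩ :=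
      exists_pullback_scheme hX' hY' hi hj w hrep.1 ξ
    have : IsIntegralHom g₀.left := repWith_property hrep sq₀
    have : IsAffine T₀.left := isAffine_of_isAffineHom v.left
    have : IsAffine W₀.left := isAffine_of_isAffineHom g₀.left
    have hW := Lim.Thickening.isAffine_of_surjective k.left
    refine ⟨W, g, fst, sqW, hW, ?_⟩
    have e : k.left ≫ g.left = g₀.left ≫ v.left := congrArg (fun m => m.left) hkg
    have : UniversallyClosed (k.left ≫ g.left) := by rw [e]; infer_instance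
    exact IsIntegralHom.iff_universallyClosed_and_isAffineHom.2
      ⟨UniversallyClosed.of_comp_surjective k.left g.left, isAffineHom_of_isAffine g.left⟩
  · obtain ⟨W, g, fst, sqW, hW, hg⟩ := hf hT (η ≫ j)
    obtain ⟨W₀, fst₀, k, sq, hk, -⟩ := exists_pullback_restrict hi hj w sqW
    exact ⟨W₀, _, fst₀, sq, isAffine_of_isAffineHom k.left,
      inferInstanceAs (IsIntegralHom (k.left ≫ g.left))⟩

end Groth.Agent.Lib.AffThick
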