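import Mathlib.RingTheory.RingHom.Etale
import Mathlib.RingTheory.RingHom.Flat
import Mathlib.RingTheory.LocalRing.ResidueField.Ideal
import Mathlib.RingTheory.Spectrum.Prime.Basic
import Mathlib.RingTheory.Flat.Basic

/-!
# Pushouts of rings given by ring homomorphisms, common extensions of points
-/

set_option autoImplicit false
set_option linter.style.haveILetI false

universe u

open TensorProduct

namespace Groth.Agent.Lib.AffThick

/-- The pushout of two ring maps, with its universal property. -/
structure Push {B E C : Type u} [CommRing B] [CommRing E] [CommRing C] (f : B →+* E) (g : B →+* C)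
    where
  P : Type u
  [ring : CommRing P]
  inl : E →+* P
  inr : C →+* P
  comm : inl.comp f = inr.comp g
  desc : ∀ {L : Type u} [CommRing L] (a : E →+* L) (b : C →+* L), a.comp f = b.comp g → (P →+* L)
  desc_inl : ∀ {L : Type u} [CommRing L] (a : E →+* L) (b : C →+* L) (h : a.comp f = b.comp g),
    (desc a b h).comp inl = a
  desc_inr : ∀ {L : Type u} [CommRing L] (a : E →+* L) (b : C →+* L) (h : a.comp f = b.comp g),
    (desc a b h).comp inr = b
  etale_inl : g.Etale → inl.Etale
  etale_inr : f.Etale → inr.Etale
  flat_inl : g.Flat → inl.Flat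
  flat_inr : f.Flat → inr.Flat

attribute [instance] Push.ring

/-- The tensor product as a pushout. -/
noncomputable def Push.mk' {B E C : Type u} [CommRing B] [CommRing E] [CommRing C] (f : B →+* E)
    (g : B →+* C) : Push f g :=
  letI := f.toAlgebra
  letI := g.toAlgebra
  { P := E ⊗[B] C
    inl := Algebra.TensorProduct.includeLeftRingHom
    inr := (Algebra.TensorProduct.includeRight : C →ₐ[B] E ⊗[B] C).toRingHom
    comm := RingHom.ext fun x => by
      show (algebraMap B E x) ⊗ₜ[B] (1 : C) = (1 : E) ⊗ₜ[B] (algebraMap B C x)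
      rw [Algebra.algebraMap_eq_smul_one, Algebra.algebraMap_eq_smul_one, smul_tmul]
    desc := fun {L} _ a b h =>
      letI := (a.comp f).toAlgebra
      (Algebra.TensorProduct.lift (R := B) (S := B) (⟨a, fun _ => rfl⟩ : E →ₐ[B] L)
        (⟨b, fun x => (congrArg (fun m : B →+* L => m x) h).symm⟩ : C →ₐ[B] L)
        (fun _ _ => .all _ _)).toRingHom
    desc_inl := fun {L} _ a b h => RingHom.ext fun x => by
      show a x * b 1 = a x
      rw [map_one, mul_one]
    desc_inr := fun {L} _ a b h => RingHom.ext fun x => by
      show a 1 * b x = b x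
      rw [map_one, one_mul]
    etale_inl := fun hg => by
      haveI : Algebra.Etale B C := hg
      exact RingHom.etale_algebraMap.2 (inferInstance : Algebra.Etale E (E ⊗[B] C))
    etale_inr := fun hf => by
      haveI : Algebra.Etale B E := hf
      letI := Algebra.TensorProduct.rightAlgebra (R := B) (A := E) (B := C)
      exact RingHom.etale_algebraMap.2
        (Algebra.Etale.of_equiv (Algebra.TensorProduct.commRight B C E))
    flat_inl := fun hg => by
      haveI : Module.Flat B C := hg
      exact RingHom.flat_algebraMap_iff.2 (inferInstance : Module.Flat E (E ⊗[B] C))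
    flat_inr := fun hf => by
      haveI : Module.Flat B E := hf
      letI := Algebra.TensorProduct.rightAlgebra (R := B) (A := E) (B := C)
      exact RingHom.flat_algebraMap_iff.2
        (Module.Flat.of_linearEquiv (Algebra.TensorProduct.commRight B C E).symm.toLinearEquiv) }

theorem Push.hom_ext {B E C : Type u} [CommRing B] [CommRing E] [CommRing C] (f : B →+* E)
    (g : B →+* C) {L : Type u} [CommRing L] {a b : (Push.mk' f g).P →+* L}
    (h₁ : a.comp (Push.mk' f g).inl = b.comp (Push.mk' f g).inl)
    (h₂ : a.comp (Push.mk' f g).inr = b.comp (Push.mk' f g).inr) : a = b := by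
  letI := f.toAlgebra
  letI := g.toAlgebra
  let a' : E ⊗[B] C →+* L := a
  let b' : E ⊗[B] C →+* L := b
  show a' = b'
  refine RingHom.ext fun z => ?_
  induction z using TensorProduct.induction_on with
  | zero => simp
  | add x y hx hy => rw [map_add, map_add, hx, hy]
  | tmul x y =>
    rw [show x ⊗ₜ[B] y = (x ⊗ₜ[B] (1 : C)) * ((1 : E) ⊗ₜ[B] y) by simp]
    refine (map_mul a' _ _).trans (Eq.trans ?_ (map_mul b' _ _).symm)
    exact congr_arg₂ (· * ·) (RingHom.congr_fun h₁ x) (RingHom.congr_fun h₂ y)

/-- Two field-valued points with the same image have a common extension. -/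
theorem exists_common_ext {B K L : Type u} [CommRing B] [Field K] [Field L] (a : B →+* K)
    (b : B →+* L) (h : RingHom.ker a = RingHom.ker b) :
    ∃ (Ω : Type u) (_ : Field Ω) (i : K →+* Ω) (j : L →+* Ω), i.comp a = j.comp b := by
  haveI : (RingHom.ker a).IsPrime := RingHom.ker_isPrime a
  let p := RingHom.ker a
  have hu : ∀ {M : Type u} [Field M] (c : B →+* M), RingHom.ker c = p →
      p.primeCompl ≤ (IsUnit.submonoid M).comap c := fun c hc x hx =>
    IsUnit.mk0 _ fun e => hx (hc ▸ (RingHom.mem_ker.2 e) : x ∈ p)
  let a' : p.ResidueField →+* K := Ideal.ResidueField.lift p a le_rfl (hu a rfl)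
  let b' : p.ResidueField →+* L := Ideal.ResidueField.lift p b h.le (hu b h.symm)
  let P := Push.mk' a' b'
  have : Nontrivial P.P := by
    letI := a'.toAlgebra
    letI := b'.toAlgebra
    exact (inferInstance : Nontrivial (K ⊗[p.ResidueField] L))
  obtain ⟨m, hm⟩ := Ideal.exists_maximal P.P
  letI := Ideal.Quotient.field m
  refine ⟨P.P ⧸ m, inferInstance, (Ideal.Quotient.mk m).comp P.inl,
    (Ideal.Quotient.mk m).comp P.inr, RingHom.ext fun x => ?_⟩
  have h1 : a x = a' (algebraMap B _ x) := (Ideal.ResidueField.lift_algebraMap (I := p) _ _ (hu _ (by first | rfl | exact h.symm)) x).symm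
  have h2 : b x = b' (algebraMap B _ x) := (Ideal.ResidueField.lift_algebraMap (I := p) _ _ (hu _ (by first | rfl | exact h.symm)) x).symm
  show Ideal.Quotient.mk m (P.inl (a x)) = Ideal.Quotient.mk m (P.inr (b x))
  rw [h1, h2]
  exact congrArg _ (RingHom.congr_fun P.comm _)

/-- Elements killed modulo an ideal after a flat base change. -/
theorem mem_map_of_tmul_eq_zero {R S : Type u} [CommRing R] [CommRing S] [Algebra R S]
    [Module.Flat R S] {M : Type u} [AddCommGroup M] [Module R M] (φ : R →ₗ[R] M) {s : S}
    (hs : φ 1 ⊗ₜ[R] s = (0 : M ⊗[R] S)) :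
    s ∈ Ideal.map (algebraMap R S) (LinearMap.ker φ) := by
  let N : Ideal R := LinearMap.ker φ
  have hex : Function.Exact N.subtype φ := LinearMap.exact_subtype_ker_map φ
  obtain ⟨z, hz⟩ := (Module.Flat.rTensor_exact S hex ((1 : R) ⊗ₜ s)).1 (by simpa using hs)
  have hz' : TensorProduct.lid R S (N.subtype.rTensor S z) = s := by rw [hz]; simp
  rw [← hz']
  clear hz hz'
  induction z using TensorProduct.induction_on with
  | zero => simp
  | add x y hx hy => simp only [map_add]; exact add_mem hx hy
  | tmul n t =>
    simp only [LinearMap.rTensor_tmul, TensorProduct.lid_tmul, Algebra.smul_def]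
    exact Ideal.mul_mem_right _ _ (Ideal.mem_map_of_mem _ n.2)

end Groth.Agent.Lib.AffThick
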