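import Groth.Agent.Lib.AffThick.Push
import Mathlib.RingTheory.Ideal.IdempotentFG
import Mathlib.RingTheory.Unramified.Finite
import Mathlib.RingTheory.Spectrum.Prime.Chevalley
import Mathlib.RingTheory.Spectrum.Prime.Topology
import Mathlib.RingTheory.Flat.Stability
import Mathlib.RingTheory.Localization.Away.Basic
import Mathlib.LinearAlgebra.FreeModule.Finite.Matrix

/-!
# Etale equivalence relations on affine schemes: tuples of related points

`Tuples k` of pairwise related and pairwise disjoint points have an affine universal family; the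
loci `D k` of points lying in such a family are quasi-compact open, and empty for large `k`.
-/

set_option autoImplicit false
set_option linter.style.haveILetI false

universe u

namespace Groth.Agent.Lib.AffThick

/-- An affine etale equivalence relation `Spec C ⇉ Spec B`, on ring-valued points. -/
structure EtRel (B C : Type u) [CommRing B] [CommRing C] where
  /-- first projection -/
  r₁ : B →+* C
  /-- second projection -/
  r₂ : B →+* C
  /-- the identity -/
  diag : C →+* B
  et : r₁.Etale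
  diag₁ : diag.comp r₁ = RingHom.id B
  diag₂ : diag.comp r₂ = RingHom.id B
  ext : ∀ {L : Type u} [CommRing L] {f g : C →+* L},
    f.comp r₁ = g.comp r₁ → f.comp r₂ = g.comp r₂ → f = g
  symm : ∀ {L : Type u} [CommRing L] (l : C →+* L),
    ∃ m : C →+* L, m.comp r₁ = l.comp r₂ ∧ m.comp r₂ = l.comp r₁
  trans : ∀ {L : Type u} [CommRing L] (l l' : C →+* L), l.comp r₂ = l'.comp r₁ →
    ∃ m : C →+* L, m.comp r₁ = l.comp r₁ ∧ m.comp r₂ = l'.comp r₂

namespace EtRel

variable {B C : Type u} [CommRing B] [CommRing C] (E : EtRel B C)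

/-- Two points are related. -/
def Rel {L : Type u} [CommRing L] (u v : B →+* L) : Prop :=
  ∃ l : C →+* L, l.comp E.r₁ = u ∧ l.comp E.r₂ = v

theorem rel_refl {L : Type u} [CommRing L] (u : B →+* L) : E.Rel u u :=
  ⟨u.comp E.diag, by rw [RingHom.comp_assoc, E.diag₁, RingHom.comp_id],
    by rw [RingHom.comp_assoc, E.diag₂, RingHom.comp_id]⟩

theorem Rel.symm' {E : EtRel B C} {L : Type u} [CommRing L] {u v : B →+* L} (h : E.Rel u v) :
    E.Rel v u := by
  obtain ⟨l, rfl, rfl⟩ := h
  exact E.symm l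

theorem Rel.trans' {E : EtRel B C} {L : Type u} [CommRing L] {u v w : B →+* L} (h : E.Rel u v)
    (h' : E.Rel v w) : E.Rel u w := by
  obtain ⟨l, rfl, hl⟩ := h
  obtain ⟨l', hl', rfl⟩ := h'
  exact E.trans l l' (hl.trans hl'.symm)

theorem Rel.comp {E : EtRel B C} {L L' : Type u} [CommRing L] [CommRing L'] {u v : B →+* L}
    (h : E.Rel u v) (f : L →+* L') : E.Rel (f.comp u) (f.comp v) := by
  obtain ⟨l, rfl, rfl⟩ := h
  exact ⟨f.comp l, rfl, rfl⟩

theorem exists_idem : ∃ e : C, IsIdempotentElem e ∧ E.diag e = 1 ∧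
    ∀ x, E.diag x = 0 → x * e = 0 := by
  letI := E.r₁.toAlgebra
  haveI : Algebra.Etale B C := E.et
  let δ : C →ₐ[B] B := ⟨E.diag, fun b => RingHom.congr_fun E.diag₁ b⟩
  have hs : Function.Surjective δ := fun b => ⟨algebraMap B C b, δ.commutes b⟩
  let K : Ideal C := RingHom.ker δ.toRingHom
  have hfg : K.FG := Algebra.FinitePresentation.ker_fG_of_surjective δ hs
  have hidem : IsIdempotentElem K := by
    refine le_antisymm Ideal.mul_le_left fun x hx => ?_
    let f₁ : C →ₐ[B] C ⧸ K * K := Ideal.Quotient.mkₐ B _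
    let f₂ : C →ₐ[B] C ⧸ K * K := f₁.comp ((Algebra.ofId B C).comp δ)
    have hn : IsNilpotent (K.map f₁) := by
      refine ⟨2, ?_⟩
      rw [pow_two, ← Ideal.map_mul, Ideal.zero_eq_bot, ← Ideal.map_coe, Ideal.map_eq_bot_iff_le_ker]
      exact le_of_eq Ideal.mk_ker.symm
    have heq : f₁ = f₂ := by
      refine Algebra.FormallyUnramified.lift_unique (K.map f₁) hn f₁ f₂ ?_
      refine AlgHom.ext fun c => ?_
      refine Ideal.Quotient.eq.2 ?_
      show f₁ c - f₁ (algebraMap B C (δ c)) ∈ _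
      rw [← map_sub]
      refine Ideal.mem_map_of_mem _ ?_
      show δ (c - algebraMap B C (δ c)) = 0
      rw [map_sub, AlgHom.commutes]
      exact sub_self _
    have := AlgHom.congr_fun heq x
    rw [show f₂ x = f₁ (algebraMap B C (δ x)) from rfl, show δ x = 0 from hx, map_zero, map_zero]
      at this
    exact Ideal.Quotient.eq_zero_iff_mem.1 this
  obtain ⟨g, hg, hK⟩ := (Ideal.isIdempotentElem_iff_of_fg K hfg).1 hidem
  refine ⟨1 - g, hg.one_sub, ?_, fun x hx => ?_⟩
  · have h : E.diag g = 0 :=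
      (show g ∈ K by rw [hK]; exact Ideal.mem_span_singleton_self g)
    rw [map_sub, map_one, h, sub_zero]
  · obtain ⟨y, rfl⟩ := Ideal.mem_span_singleton'.1 (show x ∈ Ideal.span {g} by
      have h : x ∈ K := hx
      rw [hK] at h
      exact h)
    rw [mul_assoc, mul_sub, mul_one, hg.eq, sub_self, mul_zero]

/-- The idempotent of the diagonal. -/
noncomputable def e : C := E.exists_idem.choose

theorem isIdempotentElem_e : IsIdempotentElem E.e := E.exists_idem.choose_spec.1

theorem diag_e : E.diag E.e = 1 := E.exists_idem.choose_spec.2.1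

theorem mul_e {x : C} (hx : E.diag x = 0) : x * E.e = 0 := E.exists_idem.choose_spec.2.2 x hx

theorem eqOn {L : Type u} [CommRing L] (l : C →+* L) (b : B) :
    l E.e * (l (E.r₁ b) - l (E.r₂ b)) = 0 := by
  rw [← map_sub, ← map_mul, mul_comm, E.mul_e, map_zero]
  rw [map_sub, ← RingHom.comp_apply, ← RingHom.comp_apply, E.diag₁, E.diag₂, sub_self]

/-- Two points are related and disjoint. -/
def Dist {L : Type u} [CommRing L] (u v : B →+* L) : Prop :=
  ∃ l : C →+* L, l.comp E.r₁ = u ∧ l.comp E.r₂ = v ∧ l E.e = 0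

theorem Dist.rel {E : EtRel B C} {L : Type u} [CommRing L] {u v : B →+* L} (h : E.Dist u v) :
    E.Rel u v :=
  let ⟨l, h₁, h₂, _⟩ := h
  ⟨l, h₁, h₂⟩

theorem Dist.comp {E : EtRel B C} {L L' : Type u} [CommRing L] [CommRing L'] {u v : B →+* L}
    (h : E.Dist u v) (f : L →+* L') : E.Dist (f.comp u) (f.comp v) := by
  obtain ⟨l, rfl, rfl, hl⟩ := h
  exact ⟨f.comp l, rfl, rfl, by simp [hl]⟩

theorem Dist.ne {E : EtRel B C} {L : Type u} [CommRing L] [Nontrivial L] {u v : B →+* L}
    (h : E.Dist u v) : u ≠ v := by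
  obtain ⟨l, h₁, h₂, hl⟩ := h
  rintro rfl
  have : l = u.comp E.diag := E.ext
    (by rw [h₁, RingHom.comp_assoc, E.diag₁, RingHom.comp_id])
    (by rw [h₂, RingHom.comp_assoc, E.diag₂, RingHom.comp_id])
  rw [this, RingHom.comp_apply, E.diag_e, map_one] at hl
  exact one_ne_zero hl

theorem dist_of_ne {L : Type u} [Field L] {u v : B →+* L} (h : E.Rel u v) (hne : u ≠ v) :
    E.Dist u v := by
  obtain ⟨l, h₁, h₂⟩ := h
  refine ⟨l, h₁, h₂, by_contra fun he => hne ?_⟩
  ext b
  have := (mul_eq_zero.1 (E.eqOn l b)).resolve_left he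
  rw [sub_eq_zero] at this
  rw [← h₁, ← h₂]
  exact this

/-- Families of pairwise related, pairwise disjoint points. -/
def Tup {L : Type u} [CommRing L] {n : ℕ} (v : Fin n → B →+* L) : Prop :=
  ∀ a b, a ≠ b → E.Dist (v a) (v b)

theorem Tup.comp {E : EtRel B C} {L L' : Type u} [CommRing L] [CommRing L'] {n : ℕ}
    {v : Fin n → B →+* L} (h : E.Tup v) (f : L →+* L') : E.Tup fun a => f.comp (v a) :=
  fun a b hab => (h a b hab).comp f

theorem Tup.rel {E : EtRel B C} {L : Type u} [CommRing L] {n : ℕ} {v : Fin n → B →+* L}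
    (h : E.Tup v) (a b : Fin n) : E.Rel (v a) (v b) := by
  rcases eq_or_ne a b with rfl | hab
  · exact E.rel_refl _
  · exact (h a b hab).rel

theorem Tup.snoc_of_field {E : EtRel B C} {L : Type u} [Field L] {n : ℕ} {v : Fin n → B →+* L}
    (h : E.Tup v) (u : B →+* L) (hu : ∀ a, E.Rel (v a) u) (hne : ∀ a, v a ≠ u) :
    E.Tup (Fin.snoc (α := fun _ => B →+* L) v u) := by
  intro a b hab
  induction a using Fin.lastCases with
  | last =>
    induction b using Fin.lastCases with
    | last => exact absurd rfl hab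
    | cast b => rw [Fin.snoc_last, Fin.snoc_castSucc]; exact E.dist_of_ne (hu b).symm' (hne b).symm
  | cast a =>
    induction b using Fin.lastCases with
    | last => rw [Fin.snoc_last, Fin.snoc_castSucc]; exact E.dist_of_ne (hu a) (hne a)
    | cast b =>
      rw [Fin.snoc_castSucc, Fin.snoc_castSucc]
      exact h a b fun e => hab (congrArg _ e)

/-- In a field-valued tuple the first point may be any related point. -/
theorem Tup.move {E : EtRel B C} {L : Type u} [Field L] {n : ℕ} {v : Fin (n + 1) → B →+* L}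
    (h : E.Tup v) {u : B →+* L} (hu : E.Rel u (v 0)) :
    ∃ w : Fin (n + 1) → B →+* L, E.Tup w ∧ w 0 = u := by
  by_cases he : ∃ a, v a = u
  · obtain ⟨a, ha⟩ := he
    exact ⟨v ∘ Equiv.swap 0 a,
      fun b c hbc => h _ _ fun e => hbc ((Equiv.swap (0 : Fin (n + 1)) a).injective e),
      by simpa using ha⟩
  · push Not at he
    refine ⟨Function.update v 0 u, fun b c hbc => ?_, Function.update_self 0 u v⟩
    rcases eq_or_ne b 0 with rfl | hb
    · rw [Function.update_self, Function.update_of_ne hbc.symm]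
      exact E.dist_of_ne (hu.trans' (h.rel 0 c)) (he c).symm
    · rcases eq_or_ne c 0 with rfl | hc
      · rw [Function.update_self, Function.update_of_ne hb]
        exact E.dist_of_ne ((h.rel b 0).trans' hu.symm') (he b)
      · rw [Function.update_of_ne hb, Function.update_of_ne hc]
        exact h b c hbc

/-- The universal tuples form an affine scheme, etale over the base by the first point. -/
theorem exists_univ : ∀ k : ℕ, ∃ (T : Type u) (_ : CommRing T) (π : Fin (k + 1) → B →+* T),
    (π 0).Etale ∧ E.Tup π ∧ ∀ (L : Type u) [Field L] (v : Fin (k + 1) → B →+* L), E.Tup v →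
      ∃ g : T →+* L, ∀ a, g.comp (π a) = v a := by
  intro k
  induction k with
  | zero =>
    refine ⟨B, inferInstance, fun _ => RingHom.id B,
      RingHom.etale_algebraMap.2 (inferInstance : Algebra.Etale B B),
      fun a b h => absurd (Subsingleton.elim (α := Fin 1) a b) h, fun L _ v _ => ⟨v 0, fun a => ?_⟩⟩
    rw [RingHom.comp_id, Subsingleton.elim (α := Fin 1) a 0]
  | succ k ih =>
    obtain ⟨T, _, π, het, hπ, hlift⟩ := ih
    let P := Push.mk' (π 0) E.r₁
    let ν : B →+* P.P := P.inr.comp E.r₂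
    have h0 : E.Rel (P.inl.comp (π 0)) ν := ⟨P.inr, P.comm.symm, rfl⟩
    have hx : ∀ a, E.Rel (P.inl.comp (π a)) ν := fun a => ((hπ.rel a 0).comp P.inl).trans' h0
    have hy : ∀ a, E.Rel ν (P.inl.comp (π a)) := fun a => (hx a).symm'
    choose x hx₁ hx₂ using hx
    choose y hy₁ hy₂ using hy
    let g : P.P := ∏ a, (1 - x a E.e) * (1 - y a E.e)
    let T' := Localization.Away g
    let loc : P.P →+* T' := algebraMap P.P T'
    let π' : Fin (k + 2) → B →+* T' :=
      Fin.snoc (α := fun _ => B →+* T') (fun a => loc.comp (P.inl.comp (π a))) (loc.comp ν)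
    have hzero : ∀ a, loc (x a E.e) = 0 ∧ loc (y a E.e) = 0 := by
      intro a
      have hu : IsUnit (loc (1 - x a E.e) * loc (1 - y a E.e)) := by
        rw [← map_mul]
        exact isUnit_of_dvd_unit (map_dvd loc (Finset.dvd_prod_of_mem (fun a => (1 - x a E.e) * (1 - y a E.e)) (Finset.mem_univ a)))
          (IsLocalization.Away.algebraMap_isUnit g)
      rw [IsUnit.mul_iff] at hu
      constructor
      · refine hu.1.mul_left_eq_zero.1 ?_
        rw [← map_mul, mul_sub, mul_one, (E.isIdempotentElem_e.map (x a)).eq, sub_self, map_zero]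
      · refine hu.2.mul_left_eq_zero.1 ?_
        rw [← map_mul, mul_sub, mul_one, (E.isIdempotentElem_e.map (y a)).eq, sub_self, map_zero]
    refine ⟨T', inferInstance, π', ?_, ?_, ?_⟩
    · rw [show π' 0 = loc.comp (P.inl.comp (π 0)) from
        Fin.snoc_castSucc (α := fun _ => B →+* T') _ _ 0]
      refine RingHom.Etale.stableUnderComposition _ _
        (RingHom.Etale.stableUnderComposition _ _ het (P.etale_inl E.et)) ?_
      exact RingHom.etale_algebraMap.2 (Algebra.Etale.of_isLocalizationAway g)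
    · intro a b hab
      induction a using Fin.lastCases with
      | last =>
        induction b using Fin.lastCases with
        | last => exact absurd rfl hab
        | cast b =>
          simp only [π', Fin.snoc_last, Fin.snoc_castSucc]
          exact ⟨loc.comp (y b), by rw [RingHom.comp_assoc, hy₁], by rw [RingHom.comp_assoc, hy₂],
            (hzero b).2⟩
      | cast a =>
        induction b using Fin.lastCases with
        | last =>
          simp only [π', Fin.snoc_last, Fin.snoc_castSucc]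
          exact ⟨loc.comp (x a), by rw [RingHom.comp_assoc, hx₁], by rw [RingHom.comp_assoc, hx₂],
            (hzero a).1⟩
        | cast b =>
          simp only [π', Fin.snoc_castSucc]
          exact ((hπ a b fun e => hab (congrArg _ e)).comp P.inl).comp loc
    · intro L _ v hv
      obtain ⟨G, hG⟩ := hlift L (fun a => v a.castSucc)
        (fun a b hab => hv _ _ fun e => hab (Fin.castSucc_injective _ e))
      obtain ⟨w, hw₁, hw₂⟩ := hv.rel 0 (Fin.last _)
      let H : P.P →+* L := P.desc G w (by rw [hG, hw₁]; rfl)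
      have hHl : H.comp P.inl = G := P.desc_inl _ _ _
      have hHr : H.comp ν = v (Fin.last _) := by
        rw [← RingHom.comp_assoc, P.desc_inr, hw₂]
      have hHa : ∀ a, H.comp (P.inl.comp (π a)) = v a.castSucc := fun a => by
        rw [← RingHom.comp_assoc, hHl, hG]
      have hg : H g = 1 := by
        simp only [g, map_prod, map_mul, map_sub, map_one]
        refine Finset.prod_eq_one fun a _ => ?_
        obtain ⟨l, l₁, l₂, l0⟩ := hv a.castSucc (Fin.last _) (Fin.castSucc_ne_last a)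
        obtain ⟨m, m₁, m₂, m0⟩ := hv (Fin.last _) a.castSucc (Fin.castSucc_ne_last a).symm
        have e₁ : H.comp (x a) = l := E.ext (by rw [RingHom.comp_assoc, hx₁, hHa, l₁])
          (by rw [RingHom.comp_assoc, hx₂, hHr, l₂])
        have e₂ : H.comp (y a) = m := E.ext (by rw [RingHom.comp_assoc, hy₁, hHr, m₁])
          (by rw [RingHom.comp_assoc, hy₂, hHa, m₂])
        rw [← RingHom.comp_apply H (x a), ← RingHom.comp_apply H (y a), e₁, e₂, l0, m0]
        simp
      refine ⟨IsLocalization.Away.lift g (hg ▸ isUnit_one : IsUnit (H g)), fun a => ?_⟩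
      induction a using Fin.lastCases with
      | last =>
        simp only [π', Fin.snoc_last]
        rw [← RingHom.comp_assoc, IsLocalization.Away.lift_comp, hHr]
      | cast a =>
        simp only [π', Fin.snoc_castSucc]
        rw [← RingHom.comp_assoc, IsLocalization.Away.lift_comp, hHa]

/-- The points which are the first of `k + 1` pairwise related disjoint points. -/
def D (k : ℕ) : Set (PrimeSpectrum B) :=
  {p | ∃ (L : Type u) (_ : Field L) (v : Fin (k + 1) → B →+* L),
    E.Tup v ∧ RingHom.ker (v 0) = p.asIdeal}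

theorem mem_D_zero (p : PrimeSpectrum B) : p ∈ E.D 0 :=
  ⟨p.asIdeal.ResidueField, inferInstance, fun _ => algebraMap B _,
    fun a b h => absurd (Subsingleton.elim (α := Fin 1) a b) h, Ideal.ker_algebraMap_residueField p.asIdeal⟩

theorem D_succ_subset (k : ℕ) : E.D (k + 1) ⊆ E.D k := by
  rintro p ⟨L, _, v, hv, hp⟩
  exact ⟨L, inferInstance, fun a => v a.castSucc,
    fun a b hab => hv _ _ fun e => hab (Fin.castSucc_injective _ e), hp⟩

theorem D_invariant {k : ℕ} (c : PrimeSpectrum C) (h : PrimeSpectrum.comap E.r₁ c ∈ E.D k) :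
    PrimeSpectrum.comap E.r₂ c ∈ E.D k := by
  obtain ⟨L, _, v, hv, hp⟩ := h
  let l := algebraMap C c.asIdeal.ResidueField
  have hk : RingHom.ker (v 0) = RingHom.ker (l.comp E.r₁) := by
    rw [hp, ← RingHom.comap_ker, Ideal.ker_algebraMap_residueField]; rfl
  obtain ⟨Ω, _, i, j, hij⟩ := exists_common_ext (v 0) (l.comp E.r₁) hk
  have hr : E.Rel ((j.comp l).comp E.r₂) (i.comp (v 0)) :=
    Rel.symm' ⟨j.comp l, by rw [hij, RingHom.comp_assoc], rfl⟩
  obtain ⟨w, hw, hw0⟩ := (hv.comp i).move hr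
  refine ⟨Ω, inferInstance, w, hw, ?_⟩
  rw [hw0, ← RingHom.comap_ker, RingHom.ker_comp_of_injective _ j.injective,
    Ideal.ker_algebraMap_residueField]
  rfl

theorem D_invariant' {k : ℕ} (c : PrimeSpectrum C) (h : PrimeSpectrum.comap E.r₂ c ∈ E.D k) :
    PrimeSpectrum.comap E.r₁ c ∈ E.D k := by
  obtain ⟨σ, hσ₁, hσ₂⟩ := E.symm (RingHom.id C)
  have e₁ : PrimeSpectrum.comap E.r₁ (PrimeSpectrum.comap σ c) = PrimeSpectrum.comap E.r₂ c := by
    rw [← PrimeSpectrum.comap_comp_apply, hσ₁, RingHom.id_comp]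
  have e₂ : PrimeSpectrum.comap E.r₂ (PrimeSpectrum.comap σ c) = PrimeSpectrum.comap E.r₁ c := by
    rw [← PrimeSpectrum.comap_comp_apply, hσ₂, RingHom.id_comp]
  rw [← e₂]
  exact E.D_invariant _ (e₁ ▸ h)

/-- The affine scheme of pairs of a tuple and a point related to it. -/
theorem D_eq_range {k : ℕ} {T : Type u} [CommRing T] {π : Fin (k + 1) → B →+* T} (hπ : E.Tup π)
    (hlift : ∀ (L : Type u) [Field L] (v : Fin (k + 1) → B →+* L), E.Tup v →
      ∃ g : T →+* L, ∀ a, g.comp (π a) = v a) :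
    E.D k = Set.range (PrimeSpectrum.comap ((Push.mk' E.r₂ (π 0)).inl.comp E.r₁)) := by
  let P := Push.mk' E.r₂ (π 0)
  ext p
  constructor
  · rintro ⟨L, _, v, hv, hp⟩
    obtain ⟨g, hg⟩ := hlift L v hv
    let H : P.P →+* L := P.desc ((v 0).comp E.diag) g
      (by rw [RingHom.comp_assoc, E.diag₂, RingHom.comp_id, hg])
    haveI : (RingHom.ker H).IsPrime := RingHom.ker_isPrime _
    refine ⟨⟨RingHom.ker H, inferInstance⟩, PrimeSpectrum.ext ?_⟩
    show (RingHom.ker H).comap (P.inl.comp E.r₁) = _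
    rw [RingHom.comap_ker, ← RingHom.comp_assoc, P.desc_inl, RingHom.comp_assoc, E.diag₁,
      RingHom.comp_id, hp]
  · rintro ⟨s, rfl⟩
    let l := algebraMap P.P s.asIdeal.ResidueField
    have hr : E.Rel (l.comp (P.inl.comp E.r₁)) (l.comp (P.inr.comp (π 0))) :=
      ⟨l.comp P.inl, rfl, by rw [RingHom.comp_assoc, P.comm]⟩
    obtain ⟨w, hw, hw0⟩ := (hπ.comp (l.comp P.inr)).move hr
    refine ⟨_, inferInstance, w, hw, ?_⟩
    rw [hw0, ← RingHom.comap_ker, Ideal.ker_algebraMap_residueField]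
    rfl

theorem exists_zeroLocus (k : ℕ) :
    ∃ G : Ideal B, G.FG ∧ E.D k = (PrimeSpectrum.zeroLocus (G : Set B))ᶜ := by
  obtain ⟨T, _, π, het, hπ, hlift⟩ := E.exists_univ k
  have hh : ((Push.mk' E.r₂ (π 0)).inl.comp E.r₁).Etale :=
    RingHom.Etale.stableUnderComposition _ _ E.et ((Push.mk' E.r₂ (π 0)).etale_inl het)
  let h := (Push.mk' E.r₂ (π 0)).inl.comp E.r₁
  letI := h.toAlgebra
  haveI : Algebra.Etale B (Push.mk' E.r₂ (π 0)).P := hh
  rw [E.D_eq_range hπ hlift]
  obtain ⟨G, hG, e⟩ := PrimeSpectrum.isCompact_isOpen_iff_ideal.1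
    ⟨isCompact_range (PrimeSpectrum.continuous_comap h),
      (PrimeSpectrum.isOpenMap_comap_of_hasGoingDown_of_finitePresentation
        (R := B) (S := (Push.mk' E.r₂ (π 0)).P)).isOpen_range⟩
  exact ⟨G, hG, e.symm⟩

theorem exists_forall_notMem (p : PrimeSpectrum B) : ∃ k, p ∉ E.D k := by
  letI := E.r₁.toAlgebra
  haveI : Algebra.Etale B C := E.et
  let κ := p.asIdeal.ResidueField
  let F := TensorProduct B κ C
  haveI : Module.Finite κ F := Algebra.FormallyUnramified.finite_of_free κ F
  refine ⟨Module.finrank κ F, fun hk => ?_⟩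
  obtain ⟨L, _, v, hv, hp⟩ := hk
  let φ : κ →+* L := Ideal.ResidueField.lift p.asIdeal (v 0) hp.ge
    fun x hx => IsUnit.mk0 _ fun e => hx (hp ▸ (RingHom.mem_ker.2 e) : x ∈ p.asIdeal)
  letI := φ.toAlgebra
  letI := (v 0).toAlgebra
  haveI : IsScalarTower B κ L := IsScalarTower.of_algebraMap_eq fun b =>
    (Ideal.ResidueField.lift_algebraMap (I := p.asIdeal) (v 0) hp.ge (fun x hx => IsUnit.mk0 _ fun e => hx (hp ▸ (RingHom.mem_ker.2 e) : x ∈ p.asIdeal)) b).symm
  have hl : ∀ a, E.Rel (v 0) (v a) := fun a => hv.rel 0 a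
  choose l hl₁ hl₂ using hl
  let la : ∀ a, C →ₐ[B] L := fun a => ⟨l a, fun b => RingHom.congr_fun (hl₁ a) b⟩
  let Φ : Fin (Module.finrank κ F + 1) → (F →ₐ[κ] L) := fun a =>
    Algebra.TensorProduct.lift (Algebra.ofId κ L) (la a) fun _ _ => .all _ _
  have hΦ : Function.Injective Φ := by
    intro a b hab
    by_contra hne
    refine (hv a b hne).ne ?_
    rw [← hl₂, ← hl₂]
    ext x
    have h := AlgHom.congr_fun hab ((1 : κ) ⊗ₜ[B] E.r₂ x)
    change algebraMap κ L 1 * l a (E.r₂ x) = algebraMap κ L 1 * l b (E.r₂ x) at h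
    simpa using h
  have h := (Nat.card_le_card_of_injective Φ hΦ).trans (card_algHom_le_finrank κ F L)
  simp at h

/-- For `k` large there are no `k + 1` pairwise disjoint related points. -/
theorem exists_D_eq_empty : ∃ k, E.D k = ∅ := by
  by_contra hne
  push Not at hne
  choose G hG hD using E.exists_zeroLocus
  have hanti : ∀ {k l : ℕ}, k ≤ l → G l ≤ (G k).radical := by
    intro k l hkl
    have hsub : E.D l ⊆ E.D k := antitone_nat_of_succ_le (f := E.D) E.D_succ_subset hkl
    rw [hD, hD, Set.compl_subset_compl, PrimeSpectrum.zeroLocus_subset_zeroLocus_iff] at hsub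
    exact hsub
  let P : Set (Ideal B) := {Q | ∀ k, ¬ G k ≤ Q.radical}
  have hbot : (⊥ : Ideal B) ∈ P := by
    intro k hk
    obtain ⟨p, hp⟩ := hne k
    rw [hD, Set.mem_compl_iff, PrimeSpectrum.mem_zeroLocus] at hp
    exact hp (fun x hx => by
      obtain ⟨n, hn⟩ := hk hx
      exact p.isPrime.mem_of_pow_mem n (by rw [Ideal.mem_bot.1 hn]; exact zero_mem _))
  obtain ⟨Q, -, hQ⟩ := zorn_le_nonempty₀ P (fun c hc hch y hy => by
    refine ⟨sSup c, fun k hk => ?_, fun z hz => le_sSup hz⟩
    obtain ⟨n, hn⟩ := Ideal.exists_pow_le_of_le_radical_of_fg hk (hG k)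
    obtain ⟨z, hz, hnz⟩ := (Submodule.fg_iff_compact _).1 (Ideal.FG.pow (hG k) (n := n))
      c (sSup c) ⟨y, hy⟩ hch.directedOn (isLUB_sSup c) hn
    exact hc hz k (fun x hx => ⟨n, hnz (Ideal.pow_mem_pow hx n)⟩)) ⊥ hbot
  have hprime : Q.IsPrime := by
    refine ⟨fun h => hQ.1 0 (by rw [h, Ideal.radical_top]; exact le_top), fun {a b} hab => ?_⟩
    by_contra hh
    push Not at hh
    have : ∀ x ∉ Q, ∃ k, G k ≤ (Q ⊔ Ideal.span {x}).radical := by
      intro x hx
      by_contra h
      push Not at h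
      exact hx (hQ.2 (y := Q ⊔ Ideal.span {x}) h le_sup_left
        (Submodule.mem_sup_right (Ideal.mem_span_singleton_self x)))
    obtain ⟨k, hk⟩ := this a hh.1
    obtain ⟨m, hm⟩ := this b hh.2
    refine hQ.1 (max k m) ?_
    have h1 := (hanti (le_max_left k m)).trans (Ideal.radical_le_radical_iff.2 hk)
    have h2 := (hanti (le_max_right k m)).trans (Ideal.radical_le_radical_iff.2 hm)
    refine (le_inf h1 h2).trans ?_
    rw [← Ideal.radical_inf, Ideal.radical_le_radical_iff]
    intro x hx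
    refine ⟨2, ?_⟩
    rw [pow_two]
    obtain ⟨q₁, hq₁, s, hs, e₁⟩ := Submodule.mem_sup.1 hx.1
    obtain ⟨q₂, hq₂, t, ht, e₂⟩ := Submodule.mem_sup.1 hx.2
    obtain ⟨s, rfl⟩ := Ideal.mem_span_singleton'.1 hs
    obtain ⟨t, rfl⟩ := Ideal.mem_span_singleton'.1 ht
    nth_rw 1 [← e₁]
    rw [← e₂, show (q₁ + s * a) * (q₂ + t * b) = q₁ * (q₂ + t * b) + q₂ * (s * a) + s * t * (a * b)
      by ring]
    exact add_mem (add_mem (Q.mul_mem_right _ hq₁) (Q.mul_mem_right _ hq₂)) (Q.mul_mem_left _ hab)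
  obtain ⟨k, hk⟩ := E.exists_forall_notMem ⟨Q, hprime⟩
  rw [hD, Set.mem_compl_iff, not_not, PrimeSpectrum.mem_zeroLocus] at hk
  exact hQ.1 k (fun x hx => Ideal.le_radical (hk hx))

end EtRel

end Groth.Agent.Lib.AffThick
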