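import Groth.Agent.Lib.AffThick.Homotopy
import Groth.Agent.Lib.AffThick.Embed
import Mathlib.Algebra.Module.Torsion.Basic

/-!
# Improving an equalized element along one step of an adic filtration

`r₁ = algebraMap B C` and `r₂` present an étale relation, `q₁₂, q₂₃, q₁₃ : C → D` its triple. If
modulo `J` the relation is the base change of a faithfully flat `A₀ → B₀`, an element equalized
modulo an invariant ideal `M` can be corrected modulo `L ⊇ J M`.
-/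

set_option autoImplicit false
set_option linter.style.haveILetI false

universe u

open TensorProduct

namespace Groth.Agent.Lib.AffThick.Step

variable {A₀ B₀ B C D : Type u} [CommRing A₀] [CommRing B₀] [Algebra A₀ B₀]
  [CommRing B] [CommRing C] [CommRing D] [Algebra B C] [Algebra B D]
  [Module.Flat B C] [Module.Flat B D] [Module.FaithfullyFlat A₀ B₀]

theorem exists_correction (r₂ : B →+* C) (q₁₂ q₁₃ : C →ₐ[B] D) (q₂₃ : C →+* D)
    (hq1 : ∀ b, q₂₃ (algebraMap B C b) = q₁₂ (r₂ b)) (hq2 : ∀ b, q₂₃ (r₂ b) = q₁₃ (r₂ b))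
    (J L M : Ideal B) [Algebra A₀ (B ⧸ J)] (ψ : B₀ → B)
    (θ₁ : (B ⧸ J) ⊗[A₀] B₀ ≃ₐ[B ⧸ J] (B ⧸ J) ⊗[B] C)
    (hθ₁ : ∀ x, θ₁ (1 ⊗ₜ x) = 1 ⊗ₜ r₂ (ψ x))
    (θ₂ : (B ⧸ J) ⊗[A₀] (B₀ ⊗[A₀] B₀) ≃ₐ[B ⧸ J] (B ⧸ J) ⊗[B] D)
    (hθ₂ : ∀ x y, θ₂ (1 ⊗ₜ (x ⊗ₜ y)) = 1 ⊗ₜ (q₁₂ (r₂ (ψ x)) * q₁₃ (r₂ (ψ y))))
    (hφ : ∀ (a : A₀) (c : B), Ideal.Quotient.mk J c = algebraMap A₀ (B ⧸ J) a →
      r₂ c - algebraMap B C c ∈ J.map (algebraMap B C))
    (hJM : J * M ≤ L) (hM : M.map r₂ ≤ M.map (algebraMap B C))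
    (hL : L.map r₂ ≤ L.map (algebraMap B C))
    (b : B) (hb : algebraMap B C b - r₂ b ∈ M.map (algebraMap B C)) :
    ∃ e ∈ M, algebraMap B C (b - e) - r₂ (b - e) ∈ L.map (algebraMap B C) := by
  let LC := L.map (algebraMap B C)
  let LD := L.map (algebraMap B D)
  let N : Submodule B (B ⧸ L) := Submodule.map (Submodule.mkQ L) M
  have hN : ∀ n : N, ∃ m ∈ M, (n : B ⧸ L) = Ideal.Quotient.mk L m := by
    rintro ⟨_, m, hm, rfl⟩
    exact ⟨m, hm, rfl⟩
  have htor : Module.IsTorsionBySet B N (J : Set B) := by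
    rintro n ⟨c, hc⟩
    obtain ⟨m, hm, e⟩ := hN n
    refine Subtype.ext ?_
    show c • (n : B ⧸ L) = 0
    rw [e, Algebra.smul_def, Ideal.Quotient.algebraMap_eq, ← map_mul, Ideal.Quotient.eq_zero_iff_mem]
    exact hJM (Ideal.mul_mem_mul hc hm)
  letI : Module (B ⧸ J) N := htor.module
  haveI : IsScalarTower B (B ⧸ J) N := htor.isScalarTower
  letI : Module A₀ N := Module.compHom N (algebraMap A₀ (B ⧸ J))
  haveI : IsScalarTower A₀ (B ⧸ J) N := IsScalarTower.of_algebraMap_smul fun _ _ => rfl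
  have hsm : ∀ (a : A₀) (c : B), Ideal.Quotient.mk J c = algebraMap A₀ (B ⧸ J) a →
      ∀ n : N, a • n = c • n := by
    intro a c h n
    show algebraMap A₀ (B ⧸ J) a • n = c • n
    rw [← h, ← Ideal.Quotient.algebraMap_eq, IsScalarTower.algebraMap_smul]
  obtain ⟨e₁, he₁, hf₁, hr₁⟩ :=
    Embed.exists_embed J L N.subtype N.injective_subtype θ₁
  obtain ⟨e₂, he₂, hf₂, -⟩ :=
    Embed.exists_embed J L N.subtype N.injective_subtype θ₂
  -- reductions modulo `L`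
  let R : B ⧸ L →+* C ⧸ LC := Ideal.quotientMap LC r₂ (Ideal.map_le_iff_le_comap.1 hL)
  have h12 : LC ≤ LD.comap q₁₂.toRingHom := Ideal.map_le_iff_le_comap.1 (by
    rw [Ideal.map_map]
    exact le_of_eq (congrArg (fun f => Ideal.map f L) q₁₂.comp_algebraMap))
  have h13 : LC ≤ LD.comap q₁₃.toRingHom := Ideal.map_le_iff_le_comap.1 (by
    rw [Ideal.map_map]
    exact le_of_eq (congrArg (fun f => Ideal.map f L) q₁₃.comp_algebraMap))
  have h23 : LC ≤ LD.comap q₂₃ := by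
    refine Ideal.map_le_iff_le_comap.2 fun l hl => ?_
    show q₂₃ (algebraMap B C l) ∈ LD
    rw [hq1]
    exact h12 (hL (Ideal.mem_map_of_mem r₂ hl))
  let Q₁₂ : C ⧸ LC →+* D ⧸ LD := Ideal.quotientMap LD q₁₂.toRingHom h12
  let Q₁₃ : C ⧸ LC →+* D ⧸ LD := Ideal.quotientMap LD q₁₃.toRingHom h13
  let Q₂₃ : C ⧸ LC →+* D ⧸ LD := Ideal.quotientMap LD q₂₃ h23
  have f₁ : ∀ (n : N) (x : B₀) (m : B), (n : B ⧸ L) = Ideal.Quotient.mk L m →
      e₁ (n ⊗ₜ x) = Ideal.Quotient.mk LC (algebraMap B C m * r₂ (ψ x)) :=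
    fun n x m h => hf₁ n x _ m (hθ₁ x) h
  have f₂ : ∀ (n : N) (x y : B₀) (m : B), (n : B ⧸ L) = Ideal.Quotient.mk L m →
      e₂ (n ⊗ₜ (x ⊗ₜ y)) =
        Ideal.Quotient.mk LD (algebraMap B D m * (q₁₂ (r₂ (ψ x)) * q₁₃ (r₂ (ψ y)))) :=
    fun n x y m h => hf₂ n _ _ m (hθ₂ x y) h
  -- the range of `e₁`
  have hrange : ∀ z ∈ M.map (algebraMap B C), ∃ y, e₁ y = Ideal.Quotient.mk LC z := by
    intro z hz
    suffices H : ∀ d : C, ∃ y, e₁ y = Ideal.Quotient.mk LC (z * d) by simpa using H 1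
    induction hz using Submodule.span_induction with
    | mem w hw =>
      obtain ⟨m, hm, rfl⟩ := hw
      exact fun d => hr₁ ⟨_, m, hm, rfl⟩ d m rfl
    | zero => exact fun d => ⟨0, by simp⟩
    | add w w' _ _ hw hw' =>
      intro d
      obtain ⟨y, hy⟩ := hw d
      obtain ⟨y', hy'⟩ := hw' d
      exact ⟨y + y', by rw [map_add, hy, hy', ← map_add, add_mul]⟩
    | smul c w _ hw =>
      intro d
      obtain ⟨y, hy⟩ := hw (c * d)
      exact ⟨y, by rw [hy]; congr 1; rw [smul_eq_mul]; ring⟩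
  -- the twisted coaction
  have hs : ∀ n : N, ∃ y, e₁ y = R (n : B ⧸ L) := by
    intro n
    obtain ⟨m, hm, e⟩ := hN n
    rw [e]
    exact hrange _ (hM (Ideal.mem_map_of_mem r₂ hm))
  choose s₀ hs₀ using hs
  have hsmul : ∀ (a : A₀) (c : B), Ideal.Quotient.mk J c = algebraMap A₀ (B ⧸ J) a →
      ∀ y : N ⊗[A₀] B₀, e₁ (a • y) = Ideal.Quotient.mk LC (algebraMap B C c) * e₁ y := by
    intro a c h y
    induction y using TensorProduct.induction_on with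
    | zero => simp
    | add y y' hy hy' => simp only [smul_add, map_add, hy, hy', mul_add]
    | tmul n x =>
      obtain ⟨m, hm, e⟩ := hN n
      rw [smul_tmul', f₁ (a • n) x (c * m) (by
        rw [hsm a c h n, Submodule.coe_smul, e, Algebra.smul_def, Ideal.Quotient.algebraMap_eq,
          map_mul]), f₁ n x m e, ← map_mul, map_mul (algebraMap B C), mul_assoc]
  let s : N →ₗ[A₀] N ⊗[A₀] B₀ :=
    { toFun := s₀
      map_add' := fun n n' => he₁ (by simp only [map_add, hs₀, Submodule.coe_add])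
      map_smul' := fun a n => he₁ (by
        obtain ⟨c, hc⟩ := Ideal.Quotient.mk_surjective (algebraMap A₀ (B ⧸ J) a)
        obtain ⟨m, hm, e⟩ := hN n
        rw [RingHom.id_apply, hsmul a c hc, hs₀, hs₀, hsm a c hc n, Submodule.coe_smul,
          Algebra.smul_def, e, Ideal.Quotient.algebraMap_eq, ← map_mul, Ideal.quotientMap_mk,
          Ideal.quotientMap_mk, ← map_mul, Ideal.Quotient.mk_eq_mk_iff_sub_mem, map_mul, ← sub_mul]
        refine (Ideal.map_mul (algebraMap B C) J M).symm.le.trans (Ideal.map_mono hJM) ?_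
        exact Ideal.mul_mem_mul (hφ a c hc) (hM (Ideal.mem_map_of_mem r₂ hm))) }
  have hs' : ∀ n : N, e₁ (s n) = R (n : B ⧸ L) := hs₀
  -- comparison with the alternating sum
  have hA : ∀ (z : N ⊗[A₀] B₀) (y : B₀),
      e₂ (TensorProduct.assoc A₀ N B₀ B₀ (z ⊗ₜ y)) =
        Q₁₂ (e₁ z) * Ideal.Quotient.mk LD (q₁₃ (r₂ (ψ y))) := by
    intro z y
    induction z using TensorProduct.induction_on with
    | zero => simp
    | add z z' h h' => simp only [add_tmul, map_add, h, h', add_mul]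
    | tmul n x =>
      obtain ⟨m, -, e⟩ := hN n
      rw [TensorProduct.assoc_tmul, f₂ n x y m e, f₁ n x m e, Ideal.quotientMap_mk, ← map_mul]
      show _ = Ideal.Quotient.mk LD (q₁₂ (algebraMap B C m * r₂ (ψ x)) * _)
      rw [map_mul q₁₂, AlgHom.commutes, mul_assoc]
  have hone : (1 : B ⧸ J) ⊗ₜ[B] q₁₂ (r₂ (ψ 1)) = 1 ∧ (1 : B ⧸ J) ⊗ₜ[B] q₁₃ (r₂ (ψ 1)) = 1 := by
    have h : (1 : B ⧸ J) ⊗ₜ[B] r₂ (ψ 1) = 1 := by
      rw [← hθ₁, ← Algebra.TensorProduct.one_def, map_one]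
    exact ⟨by simpa using congrArg (Algebra.TensorProduct.map (AlgHom.id B (B ⧸ J)) q₁₂) h,
      by simpa using congrArg (Algebra.TensorProduct.map (AlgHom.id B (B ⧸ J)) q₁₃) h⟩
  have hB : ∀ (n : N) (x : B₀) (m : B), (n : B ⧸ L) = Ideal.Quotient.mk L m →
      e₂ (n ⊗ₜ (1 ⊗ₜ x)) = Ideal.Quotient.mk LD (algebraMap B D m * q₁₃ (r₂ (ψ x))) ∧
      e₂ (n ⊗ₜ (x ⊗ₜ 1)) = Ideal.Quotient.mk LD (algebraMap B D m * q₁₂ (r₂ (ψ x))) := by
    refine fun n x m e => ⟨hf₂ n _ _ m ?_ e, hf₂ n _ _ m ?_ e⟩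
    · rw [hθ₂, ← one_mul (1 : B ⧸ J), ← Algebra.TensorProduct.tmul_mul_tmul, hone.1, one_mul,
        one_mul]
    · rw [hθ₂, ← one_mul (1 : B ⧸ J), ← Algebra.TensorProduct.tmul_mul_tmul, hone.2, mul_one,
        one_mul]
  have hd1 : ∀ y, e₂ (Homotopy.d1 s y) = Q₂₃ (e₁ y) - Q₁₃ (e₁ y) + Q₁₂ (e₁ y) := by
    intro y
    induction y using TensorProduct.induction_on with
    | zero => simp
    | add y y' h h' => simp only [map_add, h, h']; abel
    | tmul n x =>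
      obtain ⟨m, -, e⟩ := hN n
      rw [Homotopy.d1_tmul, map_add, map_sub, hA, hs', (hB n x m e).1, (hB n x m e).2, e,
        f₁ n x m e]
      simp only [R, Q₁₂, Q₁₃, Q₂₃, Ideal.quotientMap_mk, map_mul, hq1, hq2,
        AlgHom.toRingHom_eq_coe, RingHom.coe_coe, AlgHom.commutes]
  obtain ⟨y, hy⟩ := hrange _ hb
  have hcocycle : Homotopy.d1 s y = 0 := by
    apply he₂
    rw [hd1, hy, map_zero, Ideal.quotientMap_mk, Ideal.quotientMap_mk, Ideal.quotientMap_mk,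
      ← map_sub, ← map_add]
    convert map_zero (Ideal.Quotient.mk LD)
    simp only [AlgHom.toRingHom_eq_coe, RingHom.coe_coe, map_sub, hq1, hq2, AlgHom.commutes]
    ring
  obtain ⟨n, hn⟩ := Homotopy.exists_of_d1_eq_zero s hcocycle
  obtain ⟨m, hm, e⟩ := hN n
  refine ⟨-m, neg_mem hm, ?_⟩
  have hh := congrArg e₁ hn
  rw [map_sub, hs', hy, e, hf₁ n 1 1 m (by rw [← Algebra.TensorProduct.one_def, map_one]; rfl) e]
    at hh
  rw [← Ideal.Quotient.eq_zero_iff_mem]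
  simp only [sub_neg_eq_add, map_add, map_sub, R, Ideal.quotientMap_mk, mul_one] at hh ⊢
  linear_combination -hh

end Groth.Agent.Lib.AffThick.Step
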